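import Groth.Agent.S0025
import Groth.Agent.S2359
import Groth.Agent.CohqA.ChowMain
import Groth.Agent.CalgB.AmpleProj
import Groth.Prelude.Def_RelProj
import Mathlib.AlgebraicGeometry.ZariskisMainTheorem

/-!
# Chow's lemma with dense preimage

* `exists_dense`: one can shrink the modification so that the preimage of the open is (scheme-theoretically) dense.
* `exists_chow`: Chow's lemma, Noetherian base, or separated quasi-compact base and finitely many irreducible
  components.
* `isQuasiProjective_of_immersion`: schemes immersed in `P^n_S` are quasi-projective.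
-/

set_option autoImplicit false
universe u
open CategoryTheory CategoryTheory.Limits AlgebraicGeometry TopologicalSpace

namespace Groth.Agent.EGA2.K32.ChowDense

open Groth.Agent.CohqA

theorem exists_dense {X X' : Scheme.{u}} (π : X' ⟶ X) [IsProper π] (U : X.Opens) (hU : Dense (U : Set X))
    [QuasiCompact U.ι] [IsIso (π ∣_ U)] :
    ∃ (Z : Scheme.{u}) (i : Z ⟶ X'), IsClosedImmersion i ∧ Surjective (i ≫ π) ∧
      Dense (((i ≫ π) ⁻¹ᵁ U : Z.Opens) : Set Z) ∧ IsIso ((i ≫ π) ∣_ U) ∧ (IsReduced X → IsReduced Z) := by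
  let W : X'.Opens := π ⁻¹ᵁ U
  have hq : QuasiCompact W.ι :=
    MorphismProperty.of_isPullback (P := @QuasiCompact) (isPullback_morphismRestrict π U) inferInstance
  let w : W.toScheme ⟶ X' := W.ι
  let i := w.imageι
  let v : W.toScheme ⟶ w.image := w.toImage
  have hv : v ≫ i = w := w.toImage_imageι
  have hdom : IsSchemeTheoreticallyDominant v := ChowClosure.isSchemeTheoreticallyDominant_toImage w
  have hvW : ∀ x, v x ∈ i ⁻¹ᵁ W := by
    intro x
    change i (v x) ∈ W
    rw [← Scheme.Hom.comp_apply, hv]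
    exact x.2
  have hr : Set.range v ⊆ Set.range (i ⁻¹ᵁ W).ι := by
    rw [Scheme.Opens.range_ι]
    rintro _ ⟨x, rfl⟩
    exact hvW x
  let k : W.toScheme ⟶ (i ⁻¹ᵁ W) := IsOpenImmersion.lift (i ⁻¹ᵁ W).ι v hr
  have hk : k ≫ (i ⁻¹ᵁ W).ι = v := IsOpenImmersion.lift_fac _ _ _
  have hki : k ≫ (i ∣_ W) = 𝟙 _ := by
    rw [← cancel_mono W.ι, Category.assoc, morphismRestrict_ι, ← Category.assoc, hk, hv, Category.id_comp]
  have hiso : IsIso (i ∣_ W) := by
    refine ChowClosure.isIso_of_isClosedImmersion_of_fac (i ∣_ W) k ?_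
    rw [hki]
    infer_instance
  have hd : Dense (((i ≫ π) ⁻¹ᵁ U : w.image.Opens) : Set w.image) := by
    have h1 : DenseRange v := IsDominant.denseRange (f := v)
    refine h1.mono ?_
    rintro _ ⟨x, rfl⟩
    exact hvW x
  have hi2 : IsIso ((i ≫ π) ∣_ U) := by
    rw [morphismRestrict_comp]
    have h1 : IsIso (i ∣_ (π ⁻¹ᵁ U)) := hiso
    exact IsIso.comp_isIso' h1 inferInstance
  refine ⟨w.image, i, inferInstance, ?_, hd, hi2, ?_⟩
  · constructor
    have hcl : IsClosed (Set.range (i ≫ π)) := (i ≫ π).isClosedMap.isClosed_range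
    have hsub : (U : Set X) ⊆ Set.range (i ≫ π) := by
      intro x hx
      obtain ⟨y, hy⟩ := ((i ≫ π) ∣_ U).surjective ⟨x, hx⟩
      refine ⟨(((i ≫ π) ⁻¹ᵁ U).ι y), ?_⟩
      rw [← Scheme.Hom.comp_apply, ← morphismRestrict_ι, Scheme.Hom.comp_apply, hy]
      rfl
    intro x
    have : x ∈ closure (Set.range (i ≫ π)) := closure_mono hsub (hU x)
    rw [hcl.closure_eq] at this
    exact this
  · intro hX
    have hUr : IsReduced U.toScheme := inferInstance
    have hW : IsReduced W.toScheme := isReduced_of_isOpenImmersion (π ∣_ U)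
    exact IsSchemeTheoreticallyDominant.isReduced v

theorem isCompact_iInf {X : Type*} [TopologicalSpace X] [CompactSpace X] [QuasiSeparatedSpace X] {ι : Type*}
    [Finite ι] (V : ι → Opens X) (hV : ∀ i, IsCompact (V i : Set X)) :
    IsCompact ((⨅ i, V i : Opens X) : Set X) := by
  classical
  have := Fintype.ofFinite ι
  suffices H : ∀ s : Finset ι, IsCompact ((⨅ i ∈ s, V i : Opens X) : Set X) by
    simpa using H Finset.univ
  intro s
  induction s using Finset.induction_on with
  | empty => simpa using isCompact_univ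
  | insert a s ha ih =>
    rw [Finset.iInf_insert, Opens.coe_inf]
    exact QuasiSeparatedSpace.inter_isCompact _ _ (V a).2 (hV a) (⨅ i ∈ s, V i : Opens X).2 ih

/-- Chow's lemma. -/
theorem exists_chow {X S : Scheme.{u}} (r : X ⟶ S) [IsSeparated r] [LocallyOfFiniteType r] [QuasiCompact r]
    (h : IsNoetherian S ∨ (CompactSpace S ∧ S.IsSeparated ∧ (irreducibleComponents X).Finite)) :
    ∃ (n : ℕ) (X' : Scheme.{u}) (π : X' ⟶ X) (j : X' ⟶ CohB1.ProjSpaceOver n S),
      IsImmersion j ∧ j ≫ CohB1.ProjSpaceOver.toBase n S = π ≫ r ∧ IsProper π ∧ Surjective π ∧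
      (∃ U : X.Opens, Dense (U : Set X) ∧ Dense ((π ⁻¹ᵁ U : X'.Opens) : Set X') ∧ IsIso (π ∣_ U)) ∧
      (IsReduced X → IsReduced X') := by
  obtain ⟨n, X', π, j, h1, h2, h3, U, hU, hUc, hUi⟩ : ∃ (n : ℕ) (X' : Scheme.{u}) (π : X' ⟶ X)
      (j : X' ⟶ CohB1.ProjSpaceOver n S),
      IsImmersion j ∧ j ≫ CohB1.ProjSpaceOver.toBase n S = π ≫ r ∧ IsProper π ∧
      ∃ U : X.Opens, Dense (U : Set X) ∧ QuasiCompact U.ι ∧ IsIso (π ∣_ U) := by
    rcases h with h | ⟨hc, hs, hfin⟩
    · have hX : IsLocallyNoetherian X := LocallyOfFiniteType.isLocallyNoetherian r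
      obtain ⟨n, X', π, j, h1, h2, h3, -, U, hU, hUi⟩ := Groth.Agent.S0025.result r
      exact ⟨n, X', π, j, h1, h2, h3, U, hU, inferInstance, hUi⟩
    · have hXc : CompactSpace X := QuasiCompact.compactSpace_of_compactSpace r
      have hXs : X.IsSeparated := by
        refine ⟨?_⟩
        have : terminal.from X = r ≫ terminal.from S := Subsingleton.elim _ _
        rw [this]
        infer_instance
      obtain ⟨m, V, hV, hcov, hd⟩ := DenseAffine.exists_finite_cover_dense_isAffineOpen X hfin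
      have hd' := DenseAffine.dense_iInf V hd
      have hqc : QuasiCompact (⨅ i, V i : X.Opens).ι := by
        have hqs : QuasiSeparatedSpace X := inferInstance
        rw [quasiCompact_iff_compactSpace]
        exact isCompact_iff_compactSpace.1 (isCompact_iInf V (fun i ↦ (hV i).isCompact))
      obtain ⟨n, X', π, j, h1, h2, h3, -, h5⟩ := ChowMain.of_cover r
        (fun n ↦ Groth.Agent.CohqA.ChowAff.exists_immersion n S)
        (fun n _ b t ht ↦ Groth.Agent.CohqA.ChowProd.exists_product S n b t ht)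
        (fun n ↦ Groth.Agent.Dix.ProjProper.isProper_toBase n S) V hV hcov hd'
      exact ⟨n, X', π, j, h1, h2, h3, _, hd', hqc, h5⟩
  obtain ⟨Z, i, hi, hs, hd, hiso, hred⟩ := exists_dense π U hU
  refine ⟨n, Z, i ≫ π, i ≫ j, inferInstance, ?_, inferInstance, hs, ⟨U, hU, hd, hiso⟩, hred⟩
  rw [Category.assoc, h2, Category.assoc]

/-- Schemes immersed in projective space are quasi-projective. -/
theorem isQuasiProjective_of_immersion {X S : Scheme.{u}} (f : X ⟶ S) [LocallyOfFiniteType f] [QuasiCompact f]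
    {n : ℕ} (i : X ⟶ CohB1.ProjSpaceOver n S) [IsImmersion i] (hi : i ≫ CohB1.ProjSpaceOver.toBase n S = f) :
    RelProj.IsQuasiProjective f := by
  obtain ⟨E, hE⟩ := Groth.Agent.CalgB.AmpleProj.exists_isRelAmple_projSpaceOver n S
  have hp := Groth.Agent.Dix.ProjProper.isProper_toBase n S
  have hqi : QuasiCompact (i ≫ CohB1.ProjSpaceOver.toBase n S) := by rw [hi]; infer_instance
  have : QuasiCompact i := QuasiCompact.of_comp i (CohB1.ProjSpaceOver.toBase n S)
  refine ⟨inferInstance, inferInstance, (Scheme.Modules.pullback i).obj E, ?_⟩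
  rw [← hi]
  exact Groth.Agent.S2359.result (CohB1.ProjSpaceOver.toBase n S) i i.isEmbedding E hE

theorem exists_lift {A T X X' S : Scheme.{u}} (a : A ⟶ T) (hT : IsTerminal T) (r : X ⟶ S) (π : X' ⟶ X)
    (j : X' ⟶ pullback a (hT.from S)) (hj : j ≫ pullback.snd a (hT.from S) = π ≫ r) :
    ∃ (m : pullback a (hT.from X) ⟶ pullback a (hT.from S)) (k : X' ⟶ pullback a (hT.from X)),
      k ≫ m = j ∧ k ≫ pullback.snd a (hT.from X) = π := by
  refine ⟨pullback.lift (pullback.fst _ _) (pullback.snd _ _ ≫ r) (hT.hom_ext _ _),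
    pullback.lift (j ≫ pullback.fst _ _) π (hT.hom_ext _ _), ?_, pullback.lift_snd _ _ _⟩
  apply pullback.hom_ext
  · rw [Category.assoc, pullback.lift_fst, pullback.lift_fst]
  · rw [Category.assoc, pullback.lift_snd, pullback.lift_snd_assoc, hj]

/-- A proper morphism to `X` from a scheme immersed in `P^n_S` over `S` is H-projective. -/
theorem isHProjective_of_immersion {X X' S : Scheme.{u}} (r : X ⟶ S) (π : X' ⟶ X) [IsProper π]
    {n : ℕ} (j : X' ⟶ CohB1.ProjSpaceOver n S) [IsImmersion j]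
    (hj : j ≫ CohB1.ProjSpaceOver.toBase n S = π ≫ r) : RelProj.IsHProjective π := by
  have hp := Groth.Agent.Dix.ProjProper.isProper_toBase n X
  obtain ⟨m, k, hkm, hk⟩ : ∃ (m : CohB1.ProjSpaceOver n X ⟶ CohB1.ProjSpaceOver n S)
      (k : X' ⟶ CohB1.ProjSpaceOver n X), k ≫ m = j ∧ k ≫ CohB1.ProjSpaceOver.toBase n X = π :=
    exists_lift (CohB1.ProjSpace.toSpec n (ULift.{u} ℤ)) specULiftZIsTerminal r π j hj
  have h1 : IsProper (k ≫ CohB1.ProjSpaceOver.toBase n X) := by rw [hk]; infer_instance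
  have h2 : IsProper k := IsProper.of_comp k (CohB1.ProjSpaceOver.toBase n X)
  have h3 : IsImmersion (k ≫ m) := by rw [hkm]; infer_instance
  have h4 : IsImmersion k := IsImmersion.of_comp k m
  exact ⟨n, k, (IsClosedImmersion.iff_isProper_and_mono k).mpr ⟨h2, inferInstance⟩, hk⟩

end Groth.Agent.EGA2.K32.ChowDense
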