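import Groth.Agent.Ega1.SubSheaf
import Groth.Agent.Fdesc.LocGen

/-!
# Gluing modules from a locally directed family

`Datum P`: `O_P`-modules `T i` with opens `W i`, a transitive relation `R i k` (`k` below `i`) with `τ : T i ⟶ T k`,
`τ_comp`, `bij` (`τ` bijective on sections over opens inside `W k`), `supp` (sections of `T i` over `V` are those over
`V ⊓ W i`), `dir` (a point of `W i ⊓ W j` lies in some `W k` with `k` below `i` and `j`).

* `glued D : P.Modules`, `lam D i : glued D ⟶ T i`, `lam_τ`, `lam_bijective` (over opens inside `W i`);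
* `lift D φ h : M ⟶ glued D` for a compatible family, `lift_lam`; `hom_ext`.
-/

set_option autoImplicit false
universe u
open CategoryTheory CategoryTheory.Limits AlgebraicGeometry TopologicalSpace Opposite

namespace Groth.Agent.EGA2.K32.GlueMod

open Groth.Agent.Fdesc.LocGen

/-- sections over `O`, as a functor to types. -/
noncomputable abbrev sectType {S : Scheme.{u}} (O : S.Opens) : S.Modules ⥤ Type u :=
  Scheme.Modules.toPresheaf S ⋙ (evaluation _ _).obj (op O) ⋙ forget Ab.{u}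

instance sectType_preservesLimits {S : Scheme.{u}} (O : S.Opens) :
    PreservesLimitsOfSize.{u, u} (sectType O) := by
  have h1 : PreservesLimitsOfSize.{u, u} (forget AddCommGrpCat.{u}) := inferInstance
  have h3 : PreservesLimitsOfSize.{u, u} (Scheme.Modules.toPresheaf S) :=
    inferInstance
  have h2 : PreservesLimitsOfSize.{u, u} ((evaluation (S.Opens)ᵒᵖ AddCommGrpCat.{u}).obj (op O)) :=
    ⟨fun {J} _ ↦ inferInstance⟩
  infer_instance

/-- Sections of a product of modules. -/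
theorem prod_sect_bijective {S : Scheme.{u}} {ι : Type u} (G : ι → S.Modules) (O : S.Opens) :
    Function.Bijective (fun (s : Γ(∏ᶜ G, O)) (i : ι) ↦
      ((Pi.π G i).app O s : Γ(G i, O))) := by
  have hl := isLimitOfPreserves (sectType O) (limit.isLimit (Discrete.functor G))
  have hb := (Types.isLimit_iff_bijective_sectionOfCone _).mp ⟨hl⟩
  constructor
  · intro s t h
    apply hb.1
    ext ⟨i⟩
    exact congrFun h i
  · intro t
    obtain ⟨s, hs⟩ := hb.2 ⟨fun j ↦ t j.as, by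
      rintro ⟨i⟩ ⟨j⟩ ⟨⟨h⟩⟩
      dsimp at h
      subst h
      simp
      rfl⟩
    refine ⟨s, ?_⟩
    ext i
    exact congrFun (congrArg Subtype.val hs) ⟨i⟩

/-- Gluing data. -/
structure Datum (P : Scheme.{u}) where
  I : Type u
  W : I → P.Opens
  T : I → P.Modules
  R : I → I → Prop
  τ : ∀ {i k : I}, R i k → (T i ⟶ T k)
  W_le : ∀ {i k : I}, R i k → W k ≤ W i
  trans : ∀ {i k l : I}, R i k → R k l → R i l
  τ_comp : ∀ {i k l : I} (h : R i k) (h' : R k l), τ h ≫ τ h' = τ (trans h h')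
  bij : ∀ {i k : I} (h : R i k) (V : P.Opens), V ≤ W k → Function.Bijective ((τ h).app V)
  supp : ∀ (i : I) (V : P.Opens), Function.Bijective (res (T i) (inf_le_left : V ⊓ W i ≤ V))
  dir : ∀ (i j : I) (x : P), x ∈ W i → x ∈ W j → ∃ k, R i k ∧ R j k ∧ x ∈ W k

variable {P : Scheme.{u}} (D : Datum P)

namespace Datum

/-- component of a section of the product. -/
noncomputable def cmp (j : D.I) {O : P.Opens} (s : Γ(∏ᶜ D.T, O)) : Γ(D.T j, O) :=
  (Pi.π D.T j).app O s

theorem cmp_add (j : D.I) {O : P.Opens} (s s' : Γ(∏ᶜ D.T, O)) :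
    D.cmp j (s + s') = D.cmp j s + D.cmp j s' := map_add ((Pi.π D.T j).app O).hom s s'

theorem cmp_zero (j : D.I) {O : P.Opens} :
    D.cmp j (0 : Γ(∏ᶜ D.T, O)) = 0 := map_zero ((Pi.π D.T j).app O).hom

theorem cmp_smul (j : D.I) {O : P.Opens} (c : Γ(P, O)) (s : Γ(∏ᶜ D.T, O)) :
    D.cmp j (c • s) = c • D.cmp j s :=
  Scheme.Modules.Hom.app_smul (Pi.π D.T j) c s

theorem cmp_res (j : D.I) {O O' : P.Opens} (h : O' ≤ O) (s : Γ(∏ᶜ D.T, O)) :
    D.cmp j (res _ h s) = res _ h (D.cmp j s) :=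
  app_res (Pi.π D.T j) h s

theorem cmp_bijective (O : P.Opens) :
    Function.Bijective (fun (s : Γ(∏ᶜ D.T, O)) (j : D.I) => D.cmp j s) :=
  prod_sect_bijective D.T O

/-- The transition map on sections. -/
noncomputable def tr {i k : D.I} (h : D.R i k) {V : P.Opens} (s : Γ(D.T i, V)) : Γ(D.T k, V) :=
  (D.τ h).app V s

theorem tr_add {i k : D.I} (h : D.R i k) {V : P.Opens} (s s' : Γ(D.T i, V)) :
    D.tr h (s + s') = D.tr h s + D.tr h s' := map_add ((D.τ h).app V).hom s s'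

theorem tr_zero {i k : D.I} (h : D.R i k) {V : P.Opens} : D.tr h (0 : Γ(D.T i, V)) = 0 :=
  map_zero ((D.τ h).app V).hom

theorem tr_smul {i k : D.I} (h : D.R i k) {V : P.Opens} (c : Γ(P, V)) (s : Γ(D.T i, V)) :
    D.tr h (c • s) = c • D.tr h s := Scheme.Modules.Hom.app_smul (D.τ h) c s

theorem tr_res {i k : D.I} (h : D.R i k) {V V' : P.Opens} (hV : V' ≤ V) (s : Γ(D.T i, V)) :
    D.tr h (res _ hV s) = res _ hV (D.tr h s) := app_res (D.τ h) hV s

theorem tr_tr {i k l : D.I} (h : D.R i k) (h' : D.R k l) {V : P.Opens} (s : Γ(D.T i, V)) :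
    D.tr h' (D.tr h s) = D.tr (D.trans h h') s := congr(($(D.τ_comp h h').app V) s)

theorem tr_inj {i k : D.I} (h : D.R i k) {V : P.Opens} (hV : V ≤ D.W k) {s s' : Γ(D.T i, V)}
    (e : D.tr h s = D.tr h s') : s = s' := (D.bij h V hV).1 e

theorem tr_surj {i k : D.I} (h : D.R i k) {V : P.Opens} (hV : V ≤ D.W k) (t : Γ(D.T k, V)) :
    ∃ s, D.tr h s = t := (D.bij h V hV).2 t

/-- Extensionality for sections of `T j`: it is enough to compare near the points of `V ⊓ W j`. -/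
theorem ext_local (j : D.I) {V : P.Opens} (s s' : Γ(D.T j, V))
    (h : ∀ x ∈ V, x ∈ D.W j → ∃ (V' : P.Opens) (hV : V' ≤ V), x ∈ V' ∧ res _ hV s = res _ hV s') : s = s' := by
  apply (D.supp j V).1
  choose V' hV' hx hs using h
  refine res_ext (D.T j) (ι := {x : P // x ∈ V ⊓ D.W j}) (V := V ⊓ D.W j)
    (fun x => (V ⊓ D.W j) ⊓ V' x.1 x.2.1 x.2.2) (fun x => inf_le_left) ?_ ?_
  · intro x hx'
    exact Opens.mem_iSup.mpr ⟨⟨x, hx'⟩, ⟨hx', hx x hx'.1 hx'.2⟩⟩
  · intro x
    rw [res_res, res_res]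
    have h1 := congrArg (res (D.T j) (inf_le_right : (V ⊓ D.W j) ⊓ V' x.1 x.2.1 x.2.2 ≤ V' x.1 x.2.1 x.2.2))
      (hs x.1 x.2.1 x.2.2)
    rw [res_res, res_res] at h1
    exact h1

/-- Compatible families. -/
def Compat {O : P.Opens} (s : Γ(∏ᶜ D.T, O)) : Prop :=
  ∀ ⦃i k : D.I⦄ (h : D.R i k), D.tr h (D.cmp i s) = D.cmp k s

/-- The glued module, as a submodule of the product. -/
noncomputable def sub : Groth.Agent.Ega1.SubSheaf.Sub (∏ᶜ D.T) where
  obj O :=
    { carrier := {s | D.Compat s}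
      add_mem' := by
        intro s s' hs hs' i k h
        rw [cmp_add, cmp_add, tr_add, hs h, hs' h]
      zero_mem' := by
        intro i k h
        rw [cmp_zero, cmp_zero, tr_zero]
      smul_mem' := by
        intro c s hs i k h
        rw [cmp_smul, cmp_smul, tr_smul, hs h] }
  map_mem := by
    intro O O' h s hs i k hik
    have e : ∀ j, D.cmp j (Groth.Agent.Ega1.SubSheaf.res (∏ᶜ D.T) h s) = res _ h (D.cmp j s) :=
      fun j => D.cmp_res j h s
    rw [e, e, tr_res, hs hik]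
  local_mem := by
    intro O s hs i k hik
    refine D.ext_local k _ _ fun x hx _ => ?_
    obtain ⟨O', hO', hxO', hs'⟩ := hs x hx
    refine ⟨O', hO', hxO', ?_⟩
    have h1 := hs' hik
    have e : ∀ j, D.cmp j (Groth.Agent.Ega1.SubSheaf.res (∏ᶜ D.T) hO' s) = res _ hO' (D.cmp j s) :=
      fun j => D.cmp_res j hO' s
    rw [e, e, tr_res] at h1
    exact h1

end Datum

/-- The glued module. -/
noncomputable def glued : P.Modules := D.sub.toModules

/-- The comparison maps. -/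
noncomputable def lam (i : D.I) : glued D ⟶ D.T i := D.sub.ι ≫ Pi.π D.T i

theorem lam_tr {i k : D.I} (h : D.R i k) {V : P.Opens} (s : Γ(glued D, V)) :
    D.tr h ((lam D i).app V s) = (lam D k).app V s := by
  have h1 : D.Compat (D.sub.ι.app V s) := D.sub.ι_app_mem s
  exact h1 h

theorem lam_τ {i k : D.I} (h : D.R i k) : lam D i ≫ D.τ h = lam D k := by
  ext V s
  exact lam_tr D h s

theorem exists_of_compat {V : P.Opens} (t : ∀ i, Γ(D.T i, V)) (ht : ∀ ⦃i k : D.I⦄ (h : D.R i k), D.tr h (t i) = t k) :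
    ∃ s : Γ(glued D, V), ∀ i, (lam D i).app V s = t i := by
  obtain ⟨s, hs⟩ := (D.cmp_bijective V).2 t
  have h1 : ∀ i, D.cmp i s = t i := fun i => congrFun hs i
  have h2 : s ∈ D.sub.obj V := fun i k h => by rw [h1, h1, ht h]
  exact ⟨D.sub.sec s h2, fun i => h1 i⟩

theorem glued_ext {V : P.Opens} {s s' : Γ(glued D, V)} (h : ∀ i, (lam D i).app V s = (lam D i).app V s') : s = s' :=
  D.sub.ι_app_injective V ((D.cmp_bijective V).1 (funext h))

theorem lam_injective (i : D.I) {V : P.Opens} (hV : V ≤ D.W i) : Function.Injective ((lam D i).app V) := by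
  intro s s' h
  refine glued_ext D fun j => D.ext_local j _ _ fun x hx hxj => ?_
  obtain ⟨k, hik, hjk, hxk⟩ := D.dir i j x (hV hx) hxj
  refine ⟨V ⊓ D.W k, inf_le_left, ⟨hx, hxk⟩, D.tr_inj hjk inf_le_right ?_⟩
  rw [D.tr_res, D.tr_res, lam_tr, lam_tr, ← lam_tr D hik, ← lam_tr D hik, h]

/-- The values at another index. -/
theorem exists_value (i : D.I) {V : P.Opens} (hV : V ≤ D.W i) (t : Γ(D.T i, V)) (j : D.I) :
    ∃ t' : Γ(D.T j, V), ∀ (k : D.I) (hik : D.R i k) (hjk : D.R j k),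
      D.tr hjk (res _ (inf_le_left : V ⊓ D.W k ≤ V) t') = D.tr hik (res _ inf_le_left t) := by
  let K := {k : D.I // D.R i k ∧ D.R j k}
  have hu : ∀ k : K, ∃ u : Γ(D.T j, V ⊓ D.W k.1), D.tr k.2.2 u = D.tr k.2.1 (res _ inf_le_left t) :=
    fun k => D.tr_surj k.2.2 inf_le_right _
  choose u hu using hu
  have hle : ∀ k : K, V ⊓ D.W k.1 ≤ V ⊓ D.W j := fun k => inf_le_inf le_rfl (D.W_le k.2.2)
  obtain ⟨t₀, ht₀⟩ := res_glue (D.T j) (V := V ⊓ D.W j) (fun k : K => V ⊓ D.W k.1) hle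
    (fun x hx => by
      obtain ⟨k, hik, hjk, hxk⟩ := D.dir i j x (hV hx.1) hx.2
      exact Opens.mem_iSup.mpr ⟨⟨k, hik, hjk⟩, hx.1, hxk⟩) u (by
      intro k k'
      refine D.ext_local j _ _ fun x hx _ => ?_
      obtain ⟨l, hkl, hkl', hxl⟩ := D.dir k.1 k'.1 x hx.1.2 hx.2.2
      have hjl := D.trans k.2.2 hkl
      refine ⟨(V ⊓ D.W k.1) ⊓ (V ⊓ D.W k'.1) ⊓ D.W l, inf_le_left, ⟨hx, hxl⟩, D.tr_inj hjl inf_le_right ?_⟩
      rw [res_res, res_res, ← D.tr_tr k.2.2 hkl, D.tr_res k.2.2, hu k, ← D.tr_res, D.tr_tr]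
      rw [← D.tr_tr k'.2.2 hkl', D.tr_res k'.2.2, hu k', ← D.tr_res, D.tr_tr, res_res, res_res])
  obtain ⟨t', ht'⟩ := (D.supp j V).2 t₀
  refine ⟨t', fun k hik hjk => ?_⟩
  rw [← hu ⟨k, hik, hjk⟩, ← ht₀ ⟨k, hik, hjk⟩, ← ht', res_res]

theorem lam_surjective (i : D.I) {V : P.Opens} (hV : V ≤ D.W i) : Function.Surjective ((lam D i).app V) := by
  intro t
  choose t' ht' using exists_value D i hV t
  have hcompat : ∀ ⦃j j' : D.I⦄ (h : D.R j j'), D.tr h (t' j) = t' j' := by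
    intro j j' h
    refine D.ext_local j' _ _ fun x hx hxj => ?_
    obtain ⟨k, hik, hjk, hxk⟩ := D.dir i j' x (hV hx) hxj
    refine ⟨V ⊓ D.W k, inf_le_left, ⟨hx, hxk⟩, D.tr_inj hjk inf_le_right ?_⟩
    rw [ht' j' k hik hjk, ← D.tr_res, D.tr_tr, ht' j k hik (D.trans h hjk)]
  obtain ⟨s, hs⟩ := exists_of_compat D t' hcompat
  refine ⟨s, ?_⟩
  rw [hs i]
  refine D.ext_local i _ _ fun x hx hxi => ?_
  obtain ⟨k, hik, -, hxk⟩ := D.dir i i x hxi hxi
  exact ⟨V ⊓ D.W k, inf_le_left, ⟨hx, hxk⟩, D.tr_inj hik inf_le_right (ht' i k hik hik)⟩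

theorem lam_bijective (i : D.I) {V : P.Opens} (hV : V ≤ D.W i) : Function.Bijective ((lam D i).app V) :=
  ⟨lam_injective D i hV, lam_surjective D i hV⟩

/-- Morphisms to the glued module. -/
theorem hom_ext {M : P.Modules} {φ ψ : M ⟶ glued D} (h : ∀ i, φ ≫ lam D i = ψ ≫ lam D i) : φ = ψ := by
  ext V s
  exact glued_ext D fun i => congr(($(h i).app V) s)

theorem exists_lift {M : P.Modules} (φ : ∀ i, M ⟶ D.T i) (h : ∀ ⦃i k : D.I⦄ (h : D.R i k), φ i ≫ D.τ h = φ k) :
    ∃ ψ : M ⟶ glued D, ∀ i, ψ ≫ lam D i = φ i := by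
  have h1 : ∀ (V : P.Opens) (m : Γ(M, V)), ∃ s : Γ(glued D, V), ∀ i, (lam D i).app V s = (φ i).app V m :=
    fun V m => exists_of_compat D (fun i => (φ i).app V m) fun i k hik => congr(($(h hik).app V) m)
  choose s hs using h1
  refine ⟨mkHom (fun V => AddMonoidHom.mk' (s V) fun m m' => ?_) (fun V c m => ?_) (fun U V hVU m => ?_), fun i => ?_⟩
  · refine glued_ext D fun i => ?_
    rw [hs, map_add, map_add, hs, hs]
  · refine glued_ext D fun i => ?_
    change (lam D i).app V (s V (c • m)) = (lam D i).app V (c • s V m)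
    rw [hs, Scheme.Modules.Hom.app_smul, Scheme.Modules.Hom.app_smul, hs]
  · refine glued_ext D fun i => ?_
    change (lam D i).app V (s V (res M hVU m)) = (lam D i).app V (res (glued D) hVU (s U m))
    rw [hs, app_res, app_res, hs]
  · ext V m
    exact hs V m i

end Groth.Agent.EGA2.K32.GlueMod
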