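import Groth.Agent.EGA2.K32.ProjVA
import Groth.Agent.EGA2.K36.TildeEx
import Groth.Agent.RelProj.K823.Criterion
import Groth.Agent.CohqB.FiniteType2

/-!
# Projective = proper + very ample of finite type

* `isProjective_iff_pva : RelProj.IsProjective f ↔ Perm.PVA f`;
* `isQuasiProjective`: projective morphisms are quasi-projective.
-/

set_option autoImplicit false
universe u
open CategoryTheory CategoryTheory.Limits AlgebraicGeometry TopologicalSpace Opposite

namespace Groth.Agent.EGA2.K32.ProjIff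

open Perm ProjVA

theorem twistEx {Y : Scheme.{u}} (𝒮 : RelProj.QCGrAlg Y) (P : Scheme.{u}) (p : P ⟶ Y)
    (chart : ∀ (U : Y.Opens) (hU : IsAffineOpen U), (((p ⁻¹ᵁ U : P.Opens) : Scheme.{u}) ≅ Proj (𝒮.deg U hU)))
    (h : RelProj.IsRelProj 𝒮 p chart) : TwistEx 𝒮 p chart := K36.TildeEx.exists_isRelTwist h 1

theorem pva_of_isProjective {X Y : Scheme.{u}} {f : X ⟶ Y} (hf : RelProj.IsProjective f) : PVA f :=
  ProjVA.pva_of_isProjective hf twistEx

theorem isProjective_of_pva {X Y : Scheme.{u}} {f : X ⟶ Y} (hf : PVA f) : RelProj.IsProjective f := by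
  obtain ⟨hp, L, E, φ, hL, hE, hE', hφ⟩ := hf
  have := hE
  exact K823.Criterion.isProjective_of_VA f φ hL hE
    (fun U hU => Groth.Agent.CohqB.FiniteType2.finite_sections_of_isFT E hE' hU) hφ

theorem isProjective_iff_pva {X Y : Scheme.{u}} {f : X ⟶ Y} : RelProj.IsProjective f ↔ PVA f :=
  ⟨pva_of_isProjective, isProjective_of_pva⟩

theorem isQuasiProjective {X Y : Scheme.{u}} {f : X ⟶ Y} (hf : RelProj.IsProjective f) :
    RelProj.IsQuasiProjective f := isQuasiProjective_of_isProjective hf twistEx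

end Groth.Agent.EGA2.K32.ProjIff
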