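import Groth.Agent.EGA2.K43.VADef
import Groth.Agent.EGA2.K42.VATens
import Groth.Agent.Fdesc.LocGenPullback
import Groth.Agent.Ega2.RelAmpComp

/-!
# Pullback and products of the section-level condition for relative very ampleness

Let `a : X₂ ⟶ X`, `b : Y₂ ⟶ Y`, `q : X ⟶ Y`, `q₂ : X₂ ⟶ Y₂` with `w : a ≫ q = q₂ ≫ b`, `L` on `X`, `E` on `Y` and
`φ : E ⟶ q_* L`.

* `pullHom w φ : b^* E ⟶ q₂_* a^* L`; `se_pullHom` computes it on pulled back sections, `nz_pullHom` the loci;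
* `va_pull`: if `L` is invertible, `b^* E` quasi-coherent and `(a, q₂) : X₂ ⟶ X ×_Y Y₂` is an IMMERSION then `VA q φ`
  implies `VA q₂ (pullHom w φ)`;
* `va_baseChange` (cartesian squares), `va_of_isImmersion` (`a` an immersion; in particular cancellation: `a = 𝟙`,
  `b = g`, `q = f ≫ g`, `q₂ = f`, and composition with an immersion, `b = 𝟙`);
* `va_prod`: products: `r : Z ⟶ Q` with `p : Z ⟶ X`, `p' : Z ⟶ X'` jointly an immersion `Z ⟶ X × X'`:
  `VA f φ` and `VA f' φ'` imply `VA r (π^* φ ⊗ π'^* φ')`.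
-/

set_option autoImplicit false
universe u
open CategoryTheory CategoryTheory.Limits AlgebraicGeometry TopologicalSpace Opposite

namespace Groth.Agent.EGA2.K32.VAPull

open Groth.Agent.Fdesc.LocGen Groth.Agent.Ega2.Nv K43.HomImm K43.VADef K42.VATens

section geom

theorem imm_prod {X Y X₂ Y₂ : Scheme.{u}} {q : X ⟶ Y} {q₂ : X₂ ⟶ Y₂} {a : X₂ ⟶ X} {b : Y₂ ⟶ Y}
    (w : a ≫ q = q₂ ≫ b) {T : Scheme.{u}} (t : Y ⟶ T) (hI : IsImmersion (pullback.lift a q₂ w))
    {x : X ⟶ T} {y : Y₂ ⟶ T} (hx : x = q ≫ t) (hy : y = b ≫ t) (w' : a ≫ x = q₂ ≫ y) :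
    IsImmersion (pullback.lift a q₂ w' : X₂ ⟶ pullback x y) := by
  subst hx hy
  have : pullback.lift a q₂ w' = pullback.lift a q₂ w ≫ pullback.mapDesc q b t := by
    apply pullback.hom_ext <;> simp only [pullback.mapDesc, pullback.map, Category.assoc, pullback.lift_fst,
      pullback.lift_snd, Category.comp_id]
  rw [this]; infer_instance

variable {X X' X₂ : Scheme.{u}} (a : X₂ ⟶ X) (a' : X₂ ⟶ X')

/-- The morphism to the absolute product is an immersion. -/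
def ImmProd : Prop := IsImmersion (pullback.lift a a' (Subsingleton.elim _ _) :
    X₂ ⟶ pullback (terminal.from X) (terminal.from X'))

variable {a a'}

theorem immProd_of_lift {S : Scheme.{u}} {q : X ⟶ S} {q' : X' ⟶ S} (w : a ≫ q = a' ≫ q')
    (hI : IsImmersion (pullback.lift a a' w)) : ImmProd a a' :=
  imm_prod w (terminal.from S) hI (Subsingleton.elim _ _) (Subsingleton.elim _ _) _

theorem immProd_of_isPullback {S : Scheme.{u}} {q : X ⟶ S} {q' : X' ⟶ S} (h : IsPullback a a' q q') :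
    ImmProd a a' := by
  refine immProd_of_lift h.w ?_
  have : IsIso (pullback.lift a a' h.w) := by
    have h1 : pullback.lift a a' h.w = h.isoPullback.hom := by
      apply pullback.hom_ext
      · rw [pullback.lift_fst, IsPullback.isoPullback_hom_fst]
      · rw [pullback.lift_snd, IsPullback.isoPullback_hom_snd]
    rw [h1]; infer_instance
  infer_instance

theorem immProd_of_isImmersion (h : IsImmersion a) : ImmProd a a' := by
  have h1 : pullback.lift a a' (Subsingleton.elim _ _) ≫ pullback.fst (terminal.from X) (terminal.from X') = a :=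
    pullback.lift_fst _ _ _
  have h2 : IsImmersion (pullback.lift a a' (Subsingleton.elim _ _) ≫
    pullback.fst (terminal.from X) (terminal.from X')) := by rw [h1]; exact h
  exact IsImmersion.of_comp _ (pullback.fst (terminal.from X) (terminal.from X'))

/-- `HImm` for a morphism to a product. -/
theorem himm_of_prod (hI : ImmProd a a') {W : X.Opens} {W₂ : X₂.Opens} {W' : X'.Opens}
    (h1 : W₂ ≤ a ⁻¹ᵁ W) (h2 : W₂ ≤ a' ⁻¹ᵁ W') {B : Subring Γ(X, W)} (hB : HImm W B)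
    {B' : Subring Γ(X', W')} (hB' : HImm W' B')
    {B₂ : Subring Γ(X₂, W₂)} (hB₁ : ∀ c ∈ B, (a.appLE W W₂ h1).hom c ∈ B₂)
    (hB₂ : ∀ c ∈ B', (a'.appLE W' W₂ h2).hom c ∈ B₂) : HImm W₂ B₂ := by
  let x : X ⟶ ⊤_ Scheme.{u} := terminal.from X
  let y : X' ⟶ ⊤_ Scheme.{u} := terminal.from X'
  have w' : a ≫ x = a' ≫ y := Subsingleton.elim _ _
  have h3 : IsImmersion (pullback.lift a a' w' : X₂ ⟶ pullback x y) := hI
  -- the restricted morphism
  let x' : (W : Scheme.{u}) ⟶ ⊤_ Scheme.{u} := terminal.from _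
  let y' : (W' : Scheme.{u}) ⟶ ⊤_ Scheme.{u} := terminal.from _
  have w'' : a.resLE W W₂ h1 ≫ x' = a'.resLE W' W₂ h2 ≫ y' := Subsingleton.elim _ _
  let l : (W₂ : Scheme.{u}) ⟶ pullback x' y' := pullback.lift (a.resLE W W₂ h1) (a'.resLE W' W₂ h2) w''
  have hl : l ≫ pullback.map x' y' x y W.ι W'.ι (𝟙 _) (Subsingleton.elim _ _) (Subsingleton.elim _ _) =
      W₂.ι ≫ pullback.lift a a' w' := by
    apply pullback.hom_ext <;> simp only [l, pullback.map, Category.assoc, pullback.lift_fst, pullback.lift_snd,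
      pullback.lift_fst_assoc, pullback.lift_snd_assoc, Scheme.Hom.resLE_comp_ι]
  have hl' : IsImmersion l := by
    have : IsImmersion (l ≫ pullback.map x' y' x y W.ι W'.ι (𝟙 _) (Subsingleton.elim _ _)
        (Subsingleton.elim _ _)) := by
      rw [hl]; infer_instance
    exact IsImmersion.of_comp _ (pullback.map x' y' x y W.ι W'.ι (𝟙 _) (Subsingleton.elim _ _)
      (Subsingleton.elim _ _))
  -- the product of `W ⟶ Spec B` and `W' ⟶ Spec B'`
  let sB : Spec (CommRingCat.of B) ⟶ ⊤_ Scheme.{u} := terminal.from _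
  let sU : Spec (CommRingCat.of B') ⟶ ⊤_ Scheme.{u} := terminal.from _
  have i1 : IsImmersion (mor W B.subtype) := hB
  have i2 : IsImmersion (mor W' B'.subtype) := hB'
  have e₁ : x' = mor W B.subtype ≫ sB := Subsingleton.elim _ _
  have e₂ : y' = mor W' B'.subtype ≫ sU := Subsingleton.elim _ _
  have hm : IsImmersion (pullback.map x' y' sB sU (mor W B.subtype) (mor W' B'.subtype) (𝟙 _)
      ((Category.comp_id _).trans e₁) ((Category.comp_id _).trans e₂)) :=
    MorphismProperty.pullbackMap (P := @IsImmersion) i1 i2 e₁ e₂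
  -- factorization through `Spec B₂`
  let α : B →+* B₂ := ((a.appLE W W₂ h1).hom.comp B.subtype).codRestrict B₂ (fun c => hB₁ c c.2)
  let β : B' →+* B₂ := ((a'.appLE W' W₂ h2).hom.comp B'.subtype).codRestrict B₂ (fun c => hB₂ c c.2)
  let ν : Spec (CommRingCat.of B₂) ⟶ pullback sB sU :=
    pullback.lift (Spec.map (CommRingCat.ofHom α)) (Spec.map (CommRingCat.ofHom β)) (Subsingleton.elim _ _)
  have hfac : mor W₂ B₂.subtype ≫ ν = l ≫ pullback.map x' y' sB sU (mor W B.subtype) (mor W' B'.subtype) (𝟙 _)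
      ((Category.comp_id _).trans e₁) ((Category.comp_id _).trans e₂) := by
    have f1 : mor W₂ B₂.subtype ≫ Spec.map (CommRingCat.ofHom α) = a.resLE W W₂ h1 ≫ mor W B.subtype := by
      rw [mor, mor, Category.assoc, ← Spec.map_comp, ← Scheme.Opens.toSpecΓ_SpecMap_appLE_assoc, ← Spec.map_comp]
      rfl
    have f2 : mor W₂ B₂.subtype ≫ Spec.map (CommRingCat.ofHom β) = a'.resLE W' W₂ h2 ≫ mor W' B'.subtype := by
      rw [mor, mor, Category.assoc, ← Spec.map_comp, ← Scheme.Opens.toSpecΓ_SpecMap_appLE_assoc, ← Spec.map_comp]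
      rfl
    apply pullback.hom_ext <;> simp only [l, ν, pullback.map, Category.assoc, pullback.lift_fst, pullback.lift_snd,
      pullback.lift_fst_assoc, pullback.lift_snd_assoc, f1, f2]
  have : IsImmersion (mor W₂ B₂.subtype ≫ ν) := by rw [hfac]; infer_instance
  exact IsImmersion.of_comp _ ν

end geom

section module

variable {X Y X₂ Y₂ : Scheme.{u}} {q : X ⟶ Y} {q₂ : X₂ ⟶ Y₂} {a : X₂ ⟶ X} {b : Y₂ ⟶ Y} (w : a ≫ q = q₂ ≫ b)
  {L : X.Modules} {E : Y.Modules} (φ : E ⟶ (Scheme.Modules.pushforward q).obj L)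

include w in
theorem pre_le (U : Y.Opens) : q₂ ⁻¹ᵁ (b ⁻¹ᵁ U) ≤ a ⁻¹ᵁ (q ⁻¹ᵁ U) := by
  rw [← Scheme.Hom.comp_preimage, ← Scheme.Hom.comp_preimage, w]

theorem app_comm (U : Y.Opens) (c : Γ(Y, U)) :
    ores (pre_le w U) (a.app (q ⁻¹ᵁ U) (q.app U c)) = q₂.app (b ⁻¹ᵁ U) (b.app U c) := by
  have h1 : (a ≫ q).appLE U (q₂ ⁻¹ᵁ (b ⁻¹ᵁ U)) (pre_le w U) = (q₂ ≫ b).appLE U (q₂ ⁻¹ᵁ (b ⁻¹ᵁ U)) le_rfl := by
    congr 1
  rw [Scheme.Hom.appLE, Scheme.Hom.appLE, Scheme.Hom.comp_app, Scheme.Hom.comp_app] at h1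
  have h2 := congr(($h1).hom c)
  have h3 : ores (pre_le w U) (a.app (q ⁻¹ᵁ U) (q.app U c)) =
    ores (le_refl (q₂ ⁻¹ᵁ (b ⁻¹ᵁ U))) (q₂.app (b ⁻¹ᵁ U) (b.app U c)) := h2
  rw [h3, ores_refl]

/-- `E ⟶ b_* q₂_* a^* L`. -/
noncomputable def preHom : E ⟶ (Scheme.Modules.pushforward b).obj
    ((Scheme.Modules.pushforward q₂).obj ((Scheme.Modules.pullback a).obj L)) :=
  mkHom (fun U => (AddMonoidHom.mk' (fun e => (res ((Scheme.Modules.pullback a).obj L) (pre_le w U)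
      (pullSec a (se q φ e)) : Γ((Scheme.Modules.pullback a).obj L, q₂ ⁻¹ᵁ (b ⁻¹ᵁ U))))
      (fun e e' => by rw [se_add, pullSec_add, map_add]) :
      Γ(E, U) →+ Γ((Scheme.Modules.pullback a).obj L, q₂ ⁻¹ᵁ (b ⁻¹ᵁ U))))
    (fun U c m => by
      change res ((Scheme.Modules.pullback a).obj L) (pre_le w U) (pullSec a (se q φ (c • m))) =
        (q₂.app (b ⁻¹ᵁ U) (b.app U c) : Γ(X₂, q₂ ⁻¹ᵁ (b ⁻¹ᵁ U))) •
          res ((Scheme.Modules.pullback a).obj L) (pre_le w U) (pullSec a (se q φ m))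
      rw [se_smul, pullSec_smul, res_smul, app_comm w])
    (fun U V h m => by
      change res ((Scheme.Modules.pullback a).obj L) (pre_le w V) (pullSec a (se q φ (res E h m))) =
        res ((Scheme.Modules.pullback a).obj L) (q₂.preimage_mono (b.preimage_mono h))
          (res ((Scheme.Modules.pullback a).obj L) (pre_le w U) (pullSec a (se q φ m)))
      rw [← res_se q φ h, ← res_pullSec a (q.preimage_mono h), res_res, res_res])

/-- The transposed morphism `b^* E ⟶ q₂_* a^* L`. -/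
noncomputable def pullHom : (Scheme.Modules.pullback b).obj E ⟶
    (Scheme.Modules.pushforward q₂).obj ((Scheme.Modules.pullback a).obj L) :=
  ((Scheme.Modules.pullbackPushforwardAdjunction b).homEquiv _ _).symm (preHom w φ)

theorem se_pullHom {U : Y.Opens} (e : Γ(E, U)) : se q₂ (pullHom w φ) (pullSec b e) =
    res ((Scheme.Modules.pullback a).obj L) (pre_le w U) (pullSec a (se q φ e)) := by
  have h := homEquiv_app b (pullHom w φ) e
  rw [pullHom, Equiv.apply_symm_apply] at h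
  exact h.symm

theorem nz_pullHom (hL : PicF.IsInvertible L) {U : Y.Opens} {U₂ : Y₂.Opens} (hle : U₂ ≤ b ⁻¹ᵁ U) (e : Γ(E, U)) :
    nz q₂ (pullHom w φ) (res ((Scheme.Modules.pullback b).obj E) hle (pullSec b e)) =
      q₂ ⁻¹ᵁ U₂ ⊓ a ⁻¹ᵁ (nz q φ e) := by
  rw [nz_res, nz, se_pullHom, nv_res, Groth.Agent.Ega2.RelAmp.nv_pullSec a
    (K42.VATens.locGen_of_isInvertible hL _), ← inf_assoc]
  congr 1
  exact inf_eq_left.mpr (q₂.preimage_mono hle)

/-- Ratios are compatible with pullback. -/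
theorem appLE_mem_ratioRing {U : Y.Opens} {U₂ : Y₂.Opens} (hle : U₂ ≤ b ⁻¹ᵁ U) (e : Γ(E, U))
    (hW : nz q₂ (pullHom w φ) (res ((Scheme.Modules.pullback b).obj E) hle (pullSec b e)) ≤ a ⁻¹ᵁ (nz q φ e))
    {c : Γ(X, nz q φ e)} (hc : c ∈ ratioRing q φ e) : (a.appLE _ _ hW).hom c ∈
      ratioRing q₂ (pullHom w φ) (res ((Scheme.Modules.pullback b).obj E) hle (pullSec b e)) := by
  suffices hs : ratioRing q φ e ≤ (ratioRing q₂ (pullHom w φ)
      (res ((Scheme.Modules.pullback b).obj E) hle (pullSec b e))).comap (a.appLE _ _ hW).hom from hs hc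
  refine Subring.closure_le.mpr ?_
  rintro c (⟨c, rfl⟩ | ⟨t, ht⟩)
  · have h1 := app_mem_ratioRing q₂ (pullHom w φ) (res _ hle (pullSec b e)) (ores hle (b.app U c))
    have h2 : (q₂.app U₂ (ores hle (b.app U c)) : Γ(X₂, q₂ ⁻¹ᵁ U₂)) =
        ores (q₂.preimage_mono hle) (q₂.app (b ⁻¹ᵁ U) (b.app U c)) :=
      congr(($(q₂.naturality (homOfLE hle).op)).hom (b.app U c))
    rw [h2, ← app_comm w, ores_ores, ores_ores] at h1
    have h3 : (a.app (nz q φ e) (ores (nz_le q φ e) (q.app U c)) : Γ(X₂, a ⁻¹ᵁ (nz q φ e))) =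
        ores (a.preimage_mono (nz_le q φ e)) (a.app (q ⁻¹ᵁ U) (q.app U c)) :=
      congr(($(a.naturality (homOfLE (nz_le q φ e)).op)).hom (q.app U c))
    change ores hW (a.app (nz q φ e) (ores (nz_le q φ e) (q.app U c))) ∈
      ratioRing q₂ (pullHom w φ) (res _ hle (pullSec b e))
    rw [h3, ores_ores]
    exact h1
  · refine ratio_mem_ratioRing q₂ _ _ (res _ hle (pullSec b t)) ?_
    have h1 := congrArg (fun s => res _ hW (pullSec a s)) ht
    rw [pullSec_smul, ← res_pullSec, ← res_pullSec, res_smul, res_res, res_res] at h1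
    rw [← res_se q₂ _ hle, ← res_se q₂ _ hle, se_pullHom, se_pullHom, res_res, res_res, res_res, res_res]
    exact h1

/-- **Pullback of `VA` along a square with `X₂ ⟶ X ×_Y Y₂` an immersion.** -/
theorem va_pull (hI : ImmProd a q₂) (hL : PicF.IsInvertible L)
    (hE : Coh.IsQCoh ((Scheme.Modules.pullback b).obj E)) (h : VA q φ) : VA q₂ (pullHom w φ) := by
  refine va_of_cover hE fun x₂ => ?_
  obtain ⟨U, hU, hxU, -⟩ := exists_isAffineOpen_mem_and_subset (x := q (a x₂)) (U := ⊤) trivial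
  have hx : q (a x₂) = b (q₂ x₂) := by
    rw [← Scheme.Hom.comp_apply, ← Scheme.Hom.comp_apply, w]
  obtain ⟨U₂, hU₂, hxU₂, hle⟩ := exists_isAffineOpen_mem_and_subset (x := q₂ x₂) (U := b ⁻¹ᵁ U)
    (by change b (q₂ x₂) ∈ U; rw [← hx]; exact hxU)
  replace hle : U₂ ≤ b ⁻¹ᵁ U := hle
  obtain ⟨e, hxe, he⟩ := h U hU (a x₂) hxU
  have hnz := nz_pullHom w φ hL hle e
  have hW₁ : nz q₂ (pullHom w φ) (res _ hle (pullSec b e)) ≤ a ⁻¹ᵁ (nz q φ e) := hnz.le.trans inf_le_right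
  exact ⟨U₂, hU₂, hxU₂, res _ hle (pullSec b e), by rw [hnz]; exact ⟨hxU₂, hxe⟩,
    himm_of_prod hI hW₁ (nz_le _ _ _) he (HImm.of_affine hU₂)
      (fun c hc => appLE_mem_ratioRing w φ hle e hW₁ hc) (fun c _ => app_mem_ratioRing _ _ _ c)⟩

/-- **Base change of `VA`.** -/
theorem va_baseChange (hp : IsPullback a q₂ q b) (hL : PicF.IsInvertible L)
    (hE : Coh.IsQCoh ((Scheme.Modules.pullback b).obj E)) (h : VA q φ) : VA q₂ (pullHom hp.w φ) :=
  va_pull hp.w φ (immProd_of_isPullback hp) hL hE h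

/-- **Cancellation and composition with an immersion.** -/
theorem va_of_isImmersion (ha : IsImmersion a) (hL : PicF.IsInvertible L)
    (hE : Coh.IsQCoh ((Scheme.Modules.pullback b).obj E)) (h : VA q φ) : VA q₂ (pullHom w φ) :=
  va_pull w φ (immProd_of_isImmersion ha) hL hE h

end module

/-! ### Products -/

section prod

variable {X Y : Scheme.{u}} (q : X ⟶ Y) {L L' : X.Modules} {E E' : Y.Modules}
  (φ : E ⟶ (Scheme.Modules.pushforward q).obj L) (φ' : E' ⟶ (Scheme.Modules.pushforward q).obj L')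

/-- Ratios for the tensor product, right factor. -/
theorem ores_mem_ratioRing_tens_right {U : Y.Opens} (e : Γ(E, U)) (e' : Γ(E', U))
    (h : nz q (tensHom q φ φ') (tmul e e') ≤ nz q φ' e') {b : Γ(X, nz q φ' e')} (hb : b ∈ ratioRing q φ' e') :
    ores h b ∈ ratioRing q (tensHom q φ φ') (tmul e e') := by
  refine ores_mem_of_closure h _ _ ?_ hb
  rintro b (⟨a, rfl⟩ | ⟨t, ht⟩)
  · dsimp only
    rw [ores_ores]
    exact app_mem_ratioRing q _ _ a
  · refine ratio_mem_ratioRing q _ _ (tmul e t) ?_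
    have h1 := congrArg (res L' h) ht
    rw [res_smul, res_res, res_res] at h1
    rw [se_tens, se_tens, res_tmul, res_tmul, h1, tmul_smul]

end prod

section product

variable {X Y X' Y' Z Q : Scheme.{u}} {f : X ⟶ Y} {f' : X' ⟶ Y'} {r : Z ⟶ Q} {p : Z ⟶ X} {p' : Z ⟶ X'}
  {π : Q ⟶ Y} {π' : Q ⟶ Y'} (w : p ≫ f = r ≫ π) (w' : p' ≫ f' = r ≫ π')
  {L : X.Modules} {L' : X'.Modules} {E : Y.Modules} {E' : Y'.Modules}
  (φ : E ⟶ (Scheme.Modules.pushforward f).obj L) (φ' : E' ⟶ (Scheme.Modules.pushforward f').obj L')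

/-- **Products of `VA`.** -/
theorem va_prod (hI : ImmProd p p') (hL : PicF.IsInvertible L) (hL' : PicF.IsInvertible L')
    (hE : Coh.IsQCoh (CohB1.tensorMod ((Scheme.Modules.pullback π).obj E) ((Scheme.Modules.pullback π').obj E')))
    (h : VA f φ) (h' : VA f' φ') : VA r (tensHom r (pullHom w φ) (pullHom w' φ')) := by
  refine va_of_cover hE fun z => ?_
  obtain ⟨U, hU, hxU, -⟩ := exists_isAffineOpen_mem_and_subset (x := f (p z)) (U := ⊤) trivial
  obtain ⟨U', hU', hxU', -⟩ := exists_isAffineOpen_mem_and_subset (x := f' (p' z)) (U := ⊤) trivial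
  have hx : f (p z) = π (r z) := by
    rw [← Scheme.Hom.comp_apply, ← Scheme.Hom.comp_apply, w]
  have hx' : f' (p' z) = π' (r z) := by
    rw [← Scheme.Hom.comp_apply, ← Scheme.Hom.comp_apply, w']
  obtain ⟨U₂, hU₂, hxU₂, hle₀⟩ := exists_isAffineOpen_mem_and_subset (x := r z) (U := π ⁻¹ᵁ U ⊓ π' ⁻¹ᵁ U')
    ⟨by change π (r z) ∈ U; rw [← hx]; exact hxU, by change π' (r z) ∈ U'; rw [← hx']; exact hxU'⟩
  have hle : U₂ ≤ π ⁻¹ᵁ U := fun y hy => (hle₀ hy).1
  have hle' : U₂ ≤ π' ⁻¹ᵁ U' := fun y hy => (hle₀ hy).2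
  obtain ⟨e, hxe, he⟩ := h U hU (p z) hxU
  obtain ⟨e', hxe', he'⟩ := h' U' hU' (p' z) hxU'
  let e₁ : Γ((Scheme.Modules.pullback π).obj E, U₂) := res _ hle (pullSec π e)
  let e₂ : Γ((Scheme.Modules.pullback π').obj E', U₂) := res _ hle' (pullSec π' e')
  have hnz₁ : nz r (pullHom w φ) e₁ = r ⁻¹ᵁ U₂ ⊓ p ⁻¹ᵁ (nz f φ e) := nz_pullHom w φ hL hle e
  have hnz₂ : nz r (pullHom w' φ') e₂ = r ⁻¹ᵁ U₂ ⊓ p' ⁻¹ᵁ (nz f' φ' e') := nz_pullHom w' φ' hL' hle' e'
  have hnz : nz r (tensHom r (pullHom w φ) (pullHom w' φ')) (tmul e₁ e₂) =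
      nz r (pullHom w φ) e₁ ⊓ nz r (pullHom w' φ') e₂ := by
    rw [nz, se_tens, nv_tmul (locGen_of_isInvertible (isInvertible_pullback p hL) _)
      (locGen_of_isInvertible (isInvertible_pullback p' hL') _)]
    rfl
  have h1 : nz r (tensHom r (pullHom w φ) (pullHom w' φ')) (tmul e₁ e₂) ≤ nz r (pullHom w φ) e₁ :=
    hnz.le.trans inf_le_left
  have h2 : nz r (tensHom r (pullHom w φ) (pullHom w' φ')) (tmul e₁ e₂) ≤ nz r (pullHom w' φ') e₂ :=
    hnz.le.trans inf_le_right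
  have h1' : nz r (pullHom w φ) e₁ ≤ p ⁻¹ᵁ (nz f φ e) := hnz₁.le.trans inf_le_right
  have h2' : nz r (pullHom w' φ') e₂ ≤ p' ⁻¹ᵁ (nz f' φ' e') := hnz₂.le.trans inf_le_right
  refine ⟨U₂, hU₂, hxU₂, tmul e₁ e₂, ?_, himm_of_prod hI (h1.trans h1') (h2.trans h2') he he' ?_ ?_⟩
  · rw [hnz, hnz₁, hnz₂]
    exact ⟨⟨hxU₂, hxe⟩, ⟨hxU₂, hxe'⟩⟩
  · intro c hc
    have h3 := ores_mem_ratioRing_tens_left (φ := pullHom w φ) (φ' := pullHom w' φ') e₁ e₂ h1
      (appLE_mem_ratioRing w φ hle e h1' hc)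
    have h4 : (p.appLE _ _ (h1.trans h1')).hom c = ores h1 ((p.appLE _ _ h1').hom c) := by
      change ores _ _ = ores h1 (ores h1' _)
      rw [ores_ores]
    rw [h4]; exact h3
  · intro c hc
    have h3 := ores_mem_ratioRing_tens_right r (pullHom w φ) (pullHom w' φ') e₁ e₂ h2
      (appLE_mem_ratioRing w' φ' hle' e' h2' hc)
    have h4 : (p'.appLE _ _ (h2.trans h2')).hom c = ores h2 ((p'.appLE _ _ h2').hom c) := by
      change ores _ _ = ores h2 (ores h2' _)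
      rw [ores_ores]
    rw [h4]; exact h3

end product

end Groth.Agent.EGA2.K32.VAPull
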