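import Groth.Agent.EGA2.K37.ProjRing
import Groth.Agent.EGA2.K37.ProjBase
import Groth.Agent.Dix.ProjProper
import Groth.Prelude.Def_RelProj

/-!
# Properness of a relative homogeneous spectrum

* `posSurj`: `A` a graded ring generated by `A_1` over `A_0`, `A_1` generated as an `R`-module by `t_0, …, t_n`
  (`ρ : R →+* A_0`): the graded homomorphism `R[T_0, …, T_n] → A` is surjective in positive degrees.
* `isProper_proj`: then `Proj A ⟶ Spec A_0 ⟶ Spec R` is proper (a closed immersion into `P^n_R`).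
* `isProper_of_isRelProj`: if `𝒮` is generated in degree one and `𝒮_1` is of finite type then `Proj(𝒮) ⟶ S` is proper.
-/

set_option autoImplicit false
universe u
open CategoryTheory CategoryTheory.Limits AlgebraicGeometry TopologicalSpace Opposite
open scoped HomogeneousIdeal

namespace Groth.Agent.EGA2.K32.ProjProper

open CohB1 K37

section ring

variable {A σ : Type u} [CommRing A] [SetLike σ A] [AddSubgroupClass σ A] {𝒜 : ℕ → σ} [GradedRing 𝒜]
  {R : Type u} [CommRing R] (ρ : R →+* 𝒜 0) {n : ℕ} (t : Fin (n + 1) → A)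

/-- The coefficient homomorphism. -/
def coef : R →+* A := (SetLike.GradeZero.subring 𝒜).subtype.comp ρ

theorem coef_mem (r : R) : coef ρ r ∈ 𝒜 0 := (ρ r).2

/-- The evaluation homomorphism `R[T_0, …, T_n] → A`. -/
noncomputable def ev : MvPolynomial (Fin (n + 1)) R →+* A := MvPolynomial.eval₂Hom (coef ρ) t

variable {t} (ht : ∀ i, t i ∈ 𝒜 1)

include ht in
theorem ev_mem {d : ℕ} {p : MvPolynomial (Fin (n + 1)) R} (hp : p ∈ polyGrading n R d) : ev ρ t p ∈ 𝒜 d := by
  have hp' : p.IsHomogeneous d := hp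
  rw [ev, MvPolynomial.coe_eval₂Hom, MvPolynomial.eval₂_eq]
  refine sum_mem fun m hm => ?_
  have h1 : ∏ i ∈ m.support, t i ^ m i ∈ 𝒜 (∑ i ∈ m.support, m i • 1) :=
    SetLike.prod_pow_mem_graded 𝒜 _ _ _ fun i _ => ht i
  have h2 : ∑ i ∈ m.support, m i • 1 = d := by
    simp only [smul_eq_mul, mul_one]
    have := hp' (MvPolynomial.mem_support_iff.mp hm)
    rw [Finsupp.weight_apply] at this
    simpa [Finsupp.sum] using this
  rw [h2] at h1
  simpa using SetLike.mul_mem_graded (coef_mem ρ (p.coeff m)) h1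

/-- The graded homomorphism. -/
noncomputable def evGr : polyGrading n R →+*ᵍ 𝒜 :=
  { ev ρ t with map_mem := fun hx => ev_mem ρ ht hx }

theorem evGr_apply (p : MvPolynomial (Fin (n + 1)) R) : evGr ρ ht p = ev ρ t p := rfl

variable (hgen : Subring.closure ((𝒜 0 : Set A) ∪ (𝒜 1 : Set A)) = ⊤)
  (hspan : ∀ x ∈ 𝒜 1, ∃ c : Fin (n + 1) → R, x = ∑ i, coef ρ (c i) * t i)

include hspan in
theorem exists_ev_of_mem_one {x : A} (hx : x ∈ 𝒜 1) :
    ∃ p : MvPolynomial (Fin (n + 1)) R, ev ρ t p = x := by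
  obtain ⟨c, rfl⟩ := hspan x hx
  refine ⟨∑ i, MvPolynomial.C (c i) * MvPolynomial.X i, ?_⟩
  rw [map_sum]
  refine Finset.sum_congr rfl fun i _ => ?_
  rw [map_mul, ev, MvPolynomial.coe_eval₂Hom, MvPolynomial.eval₂_C, MvPolynomial.eval₂_X]

include hspan ht in
theorem mul_ev (p : MvPolynomial (Fin (n + 1)) R) : ∀ {a : A}, a ∈ 𝒜 0 →
    ∃ a' ∈ 𝒜 0, ∃ q : MvPolynomial (Fin (n + 1)) R, a * ev ρ t p = a' + ev ρ t q := by
  induction p using MvPolynomial.induction_on with
  | C r =>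
    intro a ha
    refine ⟨a * coef ρ r, ?_, 0, ?_⟩
    · simpa using SetLike.mul_mem_graded ha (coef_mem ρ r)
    · rw [map_zero, add_zero, ev, MvPolynomial.coe_eval₂Hom, MvPolynomial.eval₂_C]
  | add p q hp hq =>
    intro a ha
    obtain ⟨a₁, h₁, q₁, e₁⟩ := hp ha
    obtain ⟨a₂, h₂, q₂, e₂⟩ := hq ha
    refine ⟨a₁ + a₂, add_mem h₁ h₂, q₁ + q₂, ?_⟩
    rw [map_add, map_add, mul_add, e₁, e₂]
    ring
  | mul_X p i hp =>
    intro a ha
    obtain ⟨a₁, h₁, q₁, e₁⟩ := hp ha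
    have h2 : a₁ * t i ∈ 𝒜 1 := by simpa using SetLike.mul_mem_graded h₁ (ht i)
    obtain ⟨q, hq⟩ := exists_ev_of_mem_one ρ hspan h2
    refine ⟨0, zero_mem _, q + q₁ * MvPolynomial.X i, ?_⟩
    have hX : ev ρ t (MvPolynomial.X i) = t i := by
      rw [ev, MvPolynomial.coe_eval₂Hom, MvPolynomial.eval₂_X]
    rw [map_mul, map_add, map_mul, hX, hq, ← mul_assoc, e₁]
    ring

include hspan hgen ht in
theorem exists_add_ev (x : A) : ∃ a ∈ 𝒜 0, ∃ p : MvPolynomial (Fin (n + 1)) R, x = a + ev ρ t p := by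
  have hx : x ∈ Subring.closure ((𝒜 0 : Set A) ∪ (𝒜 1 : Set A)) := by rw [hgen]; trivial
  induction hx using Subring.closure_induction with
  | mem x hx =>
    rcases hx with hx | hx
    · exact ⟨x, hx, 0, by rw [map_zero, add_zero]⟩
    · obtain ⟨q, hq⟩ := exists_ev_of_mem_one ρ hspan hx
      exact ⟨0, zero_mem _, q, by rw [zero_add, hq]⟩
  | zero => exact ⟨0, zero_mem _, 0, by rw [map_zero, add_zero]⟩
  | one => exact ⟨0, zero_mem _, 1, by rw [map_one, zero_add]⟩
  | add x y _ _ hx hy =>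
    obtain ⟨a, ha, p, rfl⟩ := hx
    obtain ⟨b, hb, q, rfl⟩ := hy
    exact ⟨a + b, add_mem ha hb, p + q, by rw [map_add]; ring⟩
  | neg x _ hx =>
    obtain ⟨a, ha, p, rfl⟩ := hx
    exact ⟨-a, neg_mem ha, -p, by rw [map_neg]; ring⟩
  | mul x y _ _ hx hy =>
    obtain ⟨a, ha, p, rfl⟩ := hx
    obtain ⟨b, hb, q, rfl⟩ := hy
    obtain ⟨a₁, h₁, q₁, e₁⟩ := mul_ev ρ ht hspan q ha
    obtain ⟨a₂, h₂, q₂, e₂⟩ := mul_ev ρ ht hspan p hb
    refine ⟨a * b + a₁ + a₂, add_mem (add_mem (by simpa using SetLike.mul_mem_graded ha hb) h₁) h₂,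
      q₁ + q₂ + p * q, ?_⟩
    rw [map_add, map_add, map_mul]
    linear_combination e₁ + e₂

include hspan hgen in
/-- The graded homomorphism is surjective in positive degrees. -/
theorem posSurj : ProjRing.PosSurj (evGr ρ ht) := by
  intro i hi b hb
  obtain ⟨a, ha, p, hp⟩ := exists_add_ev ρ ht hgen hspan b
  refine ⟨(DirectSum.decompose (polyGrading n R) p i : MvPolynomial (Fin (n + 1)) R), SetLike.coe_mem _, ?_⟩
  rw [GradedRingHom.map_directSumDecompose]
  have h1 : (DirectSum.decompose 𝒜 (a + ev ρ t p) i : A) = b := by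
    rw [← hp, DirectSum.decompose_of_mem_same _ hb]
  rw [DirectSum.decompose_add, DirectSum.add_apply] at h1
  have h2 : (DirectSum.decompose 𝒜 a i : A) = 0 := DirectSum.decompose_of_mem_ne 𝒜 ha hi.ne
  rw [← h1]
  change _ = ((DirectSum.decompose 𝒜 a i : A) + (DirectSum.decompose 𝒜 (ev ρ t p) i : A))
  rw [h2, zero_add]
  rfl

include ht hspan hgen in
/-- `Proj A ⟶ Spec R` is proper. -/
theorem isProper_proj : IsProper (Proj.toSpecZero 𝒜 ≫ Spec.map (CommRingCat.ofHom ρ)) := by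
  have hs := posSurj ρ ht hgen hspan
  have hf := ProjRing.irrelevant_le_map hs
  have h1 : IsClosedImmersion (Proj.map (evGr ρ ht) hf) := ProjRing.isClosedImmersion_map hf hs
  let τ : Proj (polyGrading n R) ⟶ Spec (CommRingCat.of R) :=
    Proj.toSpecZero (polyGrading n R) ≫ Spec.map (CommRingCat.ofHom (algebraMap R (polyGrading n R 0)))
  have hτ : IsProper τ := Groth.Agent.Dix.ProjProper.isProper_toSpec n R
  have h2 : Proj.toSpecZero 𝒜 ≫ Spec.map (CommRingCat.ofHom ρ) = Proj.map (evGr ρ ht) hf ≫ τ := by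
    have h3 := ProjRing.map_toSpecZero (evGr ρ ht) hf
    rw [← Category.assoc, h3, Category.assoc, ← Spec.map_comp]
    congr 2
    ext r
    change coef ρ r = ev ρ t (MvPolynomial.C r)
    rw [ev, MvPolynomial.coe_eval₂Hom, MvPolynomial.eval₂_C]
  rw [h2]
  infer_instance

end ring

section scheme

variable {S : Scheme.{u}} {𝒮 : RelProj.QCGrAlg S} {P : Scheme.{u}} {p : P ⟶ S}
  {chart : ∀ (U : S.Opens) (hU : IsAffineOpen U), (((p ⁻¹ᵁ U : P.Opens) : Scheme.{u}) ≅ Proj (𝒮.deg U hU))}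

theorem isProper_chart (hgen : 𝒮.IsGenDegOne) (hft : 𝒮.IsFTDeg 1) (U : S.Opens) (hU : IsAffineOpen U) :
    IsProper (Proj.toSpecZero (𝒮.deg U hU) ≫ Spec.map (𝒮.strZero U hU)) := by
  obtain ⟨T, hT, hspan⟩ := hft U hU
  -- enumerate `T`, adding a zero
  let t : Fin (T.card + 1) → 𝒮.presheaf.obj (op U) := Fin.cons 0 fun i => (T.equivFin.symm i).1
  have ht : ∀ i, t i ∈ 𝒮.deg U hU 1 := by
    intro i
    refine Fin.cases ?_ (fun j => ?_) i
    · exact zero_mem _
    · exact hT (T.equivFin.symm j).2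
  refine isProper_proj (𝒜 := 𝒮.deg U hU) (𝒮.strZero U hU).hom (t := t) ht (hgen U hU) ?_
  intro x hx
  obtain ⟨c, hc⟩ := hspan x hx
  refine ⟨Fin.cons 0 fun i => c (T.equivFin.symm i).1, ?_⟩
  rw [Fin.sum_univ_succ]
  simp only [t, Fin.cons_zero, Fin.cons_succ, mul_zero, zero_add]
  rw [hc, ← Finset.sum_coe_sort, ← T.equivFin.symm.sum_comp]
  rfl

/-- **Properness of relative homogeneous spectra generated in degree one by a module of finite type.** -/
theorem isProper_of_isRelProj (hP : RelProj.IsRelProj 𝒮 p chart) (hgen : 𝒮.IsGenDegOne) (hft : 𝒮.IsFTDeg 1) :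
    IsProper p := by
  rw [IsZariskiLocalAtTarget.iff_of_iSup_eq_top (P := @IsProper) (fun U : S.affineOpens => U.1)
    (iSup_affineOpens_eq_top S)]
  rintro ⟨U, hU⟩
  have h1 := hP.chart_over U hU
  have h2 : IsProper ((chart U hU).hom ≫ (Proj.toSpecZero (𝒮.deg U hU) ≫ Spec.map (𝒮.strZero U hU)) ≫
      hU.isoSpec.inv) := by
    have := isProper_chart hgen hft U hU
    infer_instance
  convert h2 using 1
  rw [← cancel_mono U.ι, morphismRestrict_ι, ← h1]
  simp only [Category.assoc, IsAffineOpen.isoSpec_inv_ι]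

end scheme

end Groth.Agent.EGA2.K32.ProjProper
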