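import Groth.Agent.EGA2.K32.ChowDense

/-!
# Chow's lemma (EGA II form) from "H-projective implies projective"
-/

set_option autoImplicit false
universe u
open CategoryTheory CategoryTheory.Limits AlgebraicGeometry TopologicalSpace

namespace Groth.Agent.EGA2.K32.ChowMain

open Groth.Agent.EGA2.K32.ChowDense

/-- `H`-projective morphisms are projective (interface). -/
def HProjImp : Prop := ∀ {X S : Scheme.{u}} (f : X ⟶ S), RelProj.IsHProjective f → RelProj.IsProjective f

theorem irreducible_of_dense {X X' : Scheme.{u}} (f : X' ⟶ X) [Surjective f] (U : X.Opens)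
    (hU : Dense ((f ⁻¹ᵁ U : X'.Opens) : Set X')) [IsIso (f ∣_ U)] (h : IrreducibleSpace X) :
    IrreducibleSpace X' := by
  have hne : Nonempty X' := by
    obtain ⟨y, -⟩ := f.surjective (Classical.arbitrary X)
    exact ⟨y⟩
  obtain ⟨y, hy⟩ := hU.nonempty
  have hUne : (U : Set X).Nonempty := ⟨f y, hy⟩
  have hUirr : IsIrreducible (U : Set X) := by
    refine ⟨hUne, ?_⟩
    exact (PreirreducibleSpace.isPreirreducible_univ (X := X)).open_subset U.2 (Set.subset_univ _)
  have h1 : IrreducibleSpace U.toScheme := by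
    have := (isIrreducible_iff_irreducibleSpace (s := (U : Set X))).1 hUirr
    exact this
  have h2 : IrreducibleSpace (f ⁻¹ᵁ U).toScheme := by
    have hsurj : Function.Surjective (inv (f ∣_ U)) := (inv (f ∣_ U)).surjective
    exact hsurj.irreducibleSpace (inv (f ∣_ U)).continuous
  have h3 : IsIrreducible ((f ⁻¹ᵁ U : X'.Opens) : Set X') :=
    (isIrreducible_iff_irreducibleSpace (s := ((f ⁻¹ᵁ U : X'.Opens) : Set X'))).2 h2
  have h4 : IsIrreducible (closure ((f ⁻¹ᵁ U : X'.Opens) : Set X')) := h3.closure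
  rw [hU.closure_eq] at h4
  exact (irreducibleSpace_def X').2 h4

theorem chow (HP : HProjImp.{u}) {X S : Scheme.{u}} (r : X ⟶ S) [IsSeparated r] [LocallyOfFiniteType r]
    [QuasiCompact r]
    (h : IsNoetherian S ∨ (CompactSpace S ∧ S.IsSeparated ∧ (irreducibleComponents X).Finite)) :
    ∃ (X' : Scheme.{u}) (f : X' ⟶ X),
      RelProj.IsQuasiProjective (f ≫ r) ∧ RelProj.IsProjective f ∧ Surjective f ∧
      (∃ U : X.Opens, Dense ((f ⁻¹ᵁ U : X'.Opens) : Set X') ∧ IsIso (f ∣_ U)) ∧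
      (IsReduced X → IsReduced X') ∧ (IrreducibleSpace X → IrreducibleSpace X') ∧
      (IsIntegral X → IsIntegral X') := by
  obtain ⟨n, X', π, j, h1, h2, h3, h4, ⟨U, hU, hU', hi⟩, hred⟩ := exists_chow r h
  have hirr : IrreducibleSpace X → IrreducibleSpace X' := irreducible_of_dense π U hU'
  refine ⟨X', π, ?_, HP π (isHProjective_of_immersion r π j h2), h4, ⟨U, hU', hi⟩, hred, hirr, ?_⟩
  · exact isQuasiProjective_of_immersion (π ≫ r) j h2
  · intro hX
    have h5 : IsReduced X' := hred inferInstance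
    have h6 : IrreducibleSpace X' := hirr inferInstance
    exact isIntegral_of_irreducibleSpace_of_isReduced X'

theorem proper_iff (HP : HProjImp.{u}) (PP : ∀ {X S : Scheme.{u}} (f : X ⟶ S), RelProj.IsProjective f → IsProper f)
    {X S : Scheme.{u}} (r : X ⟶ S) [IsSeparated r] [LocallyOfFiniteType r] [QuasiCompact r]
    (h : IsNoetherian S ∨ (CompactSpace S ∧ S.IsSeparated ∧ (irreducibleComponents X).Finite)) :
    (IsProper r ↔ ∃ (X' : Scheme.{u}) (f : X' ⟶ X), Surjective f ∧ RelProj.IsProjective (f ≫ r)) ∧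
    (IsProper r → ∃ (X' : Scheme.{u}) (f : X' ⟶ X), Surjective f ∧ RelProj.IsProjective (f ≫ r) ∧
        (∃ U : X.Opens, Dense (U : Set X) ∧ Dense ((f ⁻¹ᵁ U : X'.Opens) : Set X') ∧ IsIso (f ∣_ U)) ∧
        (IrreducibleSpace X → IrreducibleSpace X') ∧ (IsReduced X → IsReduced X')) := by
  have key : (IsProper r → ∃ (X' : Scheme.{u}) (f : X' ⟶ X), Surjective f ∧ RelProj.IsProjective (f ≫ r) ∧
        (∃ U : X.Opens, Dense (U : Set X) ∧ Dense ((f ⁻¹ᵁ U : X'.Opens) : Set X') ∧ IsIso (f ∣_ U)) ∧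
        (IrreducibleSpace X → IrreducibleSpace X') ∧ (IsReduced X → IsReduced X')) := by
    intro hr
    obtain ⟨n, X', π, j, h1, h2, h3, h4, ⟨U, hU, hU', hi⟩, hred⟩ := exists_chow r h
    have hj : IsProper (j ≫ CohB1.ProjSpaceOver.toBase n S) := by rw [h2]; infer_instance
    have hp := Groth.Agent.Dix.ProjProper.isProper_toBase n S
    have hj' : IsProper j := IsProper.of_comp j (CohB1.ProjSpaceOver.toBase n S)
    have hjc : IsClosedImmersion j := (IsClosedImmersion.iff_isProper_and_mono j).mpr ⟨hj', inferInstance⟩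
    exact ⟨X', π, h4, HP _ ⟨n, j, hjc, h2⟩, ⟨U, hU, hU', hi⟩, irreducible_of_dense π U hU', hred⟩
  refine ⟨⟨fun hr => ?_, ?_⟩, key⟩
  · obtain ⟨X', f, h1, h2, -⟩ := key hr
    exact ⟨X', f, h1, h2⟩
  · rintro ⟨X', f, hf, hfr⟩
    have h1 : IsProper (f ≫ r) := PP _ hfr
    have h2 : UniversallyClosed r := UniversallyClosed.of_comp_surjective f r
    exact {}

end Groth.Agent.EGA2.K32.ChowMain
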