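import Groth.Agent.Ega1.AmpFam
import Groth.Agent.Ega2.RelAmp
import Groth.Agent.Ega2.H292.NormData

/-!
# Ampleness on disjoint unions

* `exists_glue`: modules on the two parts of a disjoint union glue.
* `ampleOn_sup_of_disjoint`: ampleness over two disjoint opens.
* `isRelAmple_coprod`: a relatively ample module on `X ⨿ X'` from relatively ample modules on `X`, `X'`.
-/

set_option autoImplicit false
universe u
open CategoryTheory CategoryTheory.Limits AlgebraicGeometry TopologicalSpace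

namespace Groth.Agent.EGA2.K32.CoprodAmple

open Groth.Agent.Fdesc.LocGen Groth.Agent.Ega2.Ample Groth.Agent.Ega2.Nv Groth.Agent.Ega2.RelAmp
open Groth.Agent.Ega1.AmpFam

variable {X A B : Scheme.{u}}

theorem isIso_restrict_fst (j : A ⟶ X) [IsOpenImmersion j] (k : B ⟶ X) [IsOpenImmersion k]
    (hjk : Disjoint j.opensRange k.opensRange) (L : A.Modules) (L' : B.Modules) :
    IsIso ((Scheme.Modules.restrictFunctor j).map
      (biprod.fst : (Scheme.Modules.pushforward j).obj L ⊞ (Scheme.Modules.pushforward k).obj L' ⟶ _)) := by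
  rw [Scheme.Modules.Hom.isIso_iff_isIso_app]
  intro U
  rw [ConcreteCategory.isIso_iff_bijective]
  set M := (Scheme.Modules.pushforward j).obj L with hM
  set N := (Scheme.Modules.pushforward k).obj L' with hN
  have hsub : Subsingleton Γ(N, j ''ᵁ U) := by
    refine subsingleton_sections (X := B) L' (k ⁻¹ᵁ (j ''ᵁ U)) ?_
    refine preimage_eq_bot hjk.symm ?_
    rw [← j.image_top_eq_opensRange]
    exact j.image_mono le_top
  change Function.Bijective ((biprod.fst : M ⊞ N ⟶ M).app (j ''ᵁ U))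
  have h1 : (biprod.fst : M ⊞ N ⟶ M) ≫ biprod.inl + biprod.snd ≫ biprod.inr = 𝟙 _ := biprod.total
  have h2 : ∀ t, (biprod.inl : M ⟶ M ⊞ N).app (j ''ᵁ U) ((biprod.fst : M ⊞ N ⟶ M).app (j ''ᵁ U) t) +
    (biprod.inr : N ⟶ M ⊞ N).app (j ''ᵁ U) ((biprod.snd : M ⊞ N ⟶ N).app (j ''ᵁ U) t) = t :=
      fun t => congr(($(h1).app (j ''ᵁ U)) t)
  have h3 : (biprod.inl : M ⟶ M ⊞ N) ≫ biprod.fst = 𝟙 _ := by simp
  have h4 : ∀ a, (biprod.fst : M ⊞ N ⟶ M).app (j ''ᵁ U) ((biprod.inl : M ⟶ M ⊞ N).app (j ''ᵁ U) a) = a :=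
    fun a => congr(($(h3).app (j ''ᵁ U)) a)
  constructor
  · intro a b hab
    rw [← h2 a, ← h2 b, hab, Subsingleton.elim ((biprod.snd : M ⊞ N ⟶ N).app (j ''ᵁ U) a)
      ((biprod.snd : M ⊞ N ⟶ N).app (j ''ᵁ U) b)]
  · intro t
    exact ⟨_, h4 t⟩

theorem nonempty_restrict_iso (j : A ⟶ X) [IsOpenImmersion j] (k : B ⟶ X) [IsOpenImmersion k]
    (hjk : Disjoint j.opensRange k.opensRange) (L : A.Modules) (L' : B.Modules) :
    Nonempty (((Scheme.Modules.pushforward j).obj L ⊞ (Scheme.Modules.pushforward k).obj L').restrict j ≅ L) := by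
  have := isIso_restrict_fst j k hjk L L'
  exact ⟨asIso ((Scheme.Modules.restrictFunctor j).map
      (biprod.fst : (Scheme.Modules.pushforward j).obj L ⊞ (Scheme.Modules.pushforward k).obj L' ⟶ _)) ≪≫
      asIso ((Scheme.Modules.restrictAdjunction j).counit.app L)⟩

theorem ampleOn_congr_opens {L : X.Modules} {U V : X.Opens} (h : U = V) (hU : AmpleOn L U) : AmpleOn L V :=
  h ▸ hU

/-- Ampleness on the image of an open immersion. -/
theorem ampleOn_image (j : A ⟶ X) [IsOpenImmersion j] {M : X.Modules} {L : A.Modules}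
    (e : M.restrict j ≅ L) {U : A.Opens} (h : AmpleOn L U) : AmpleOn M (j ''ᵁ U) := by
  have h1 : CohB1.IsAmple (L.restrict U.ι) := isAmple_restrict_ι_iff U |>.2 h
  have e1 : M.restrict (U.ι ≫ j) ≅ L.restrict U.ι :=
    ((Scheme.Modules.restrictFunctorComp U.ι j).app M) ≪≫
      (Scheme.Modules.restrictFunctor U.ι).mapIso e
  have h2 : CohB1.IsAmple (M.restrict (U.ι ≫ j)) := by
    rw [isAmple_iff_ampleOn_top] at h1 ⊢
    exact Groth.Agent.Ega2.H292.NormData.ampleOn_of_iso e1.symm h1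
  rw [isAmple_restrict_iff] at h2
  refine ampleOn_congr_opens ?_ h2
  rw [Scheme.Hom.opensRange_comp, Scheme.Opens.opensRange_ι]

theorem ampleOn_sup_of_disjoint {L : X.Modules} {U V : X.Opens} (hU : AmpleOn L U) (hV : AmpleOn L V)
    (hd : U ⊓ V = ⊥) : AmpleOn L (U ⊔ V) := by
  have hcomp : ∀ (U V : X.Opens), U ⊓ V = ⊥ → ∃ a : Γ(X, U ⊔ V), X.basicOpen a = U := by
    intro U V hd
    let W : Bool → X.Opens := fun b => bif b then U else V
    let s : ∀ b, Γ(X, W b) := fun b => match b with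
      | true => 1
      | false => 0
    have hW : ∀ b, W b ≤ U ⊔ V := by rintro (_ | _); exacts [le_sup_right, le_sup_left]
    obtain ⟨a, ha⟩ := ores_glue (V := U ⊔ V) W hW (by
      refine sup_le ?_ ?_
      · exact le_iSup W true
      · exact le_iSup W false) s (by
        have hbot : ∀ b b', b ≠ b' → W b ⊓ W b' = ⊥ := by
          rintro (_ | _) (_ | _) h
          · exact absurd rfl h
          · rw [inf_comm]; exact hd
          · exact hd
          · exact absurd rfl h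
        intro b b'
        by_cases h : b = b'
        · subst h; rfl
        · refine ores_ext (ι := PEmpty.{1}) (fun i => i.elim) (fun i => i.elim) ?_ (fun i => i.elim)
          rw [hbot b b' h]
          exact bot_le)
    refine ⟨a, ?_⟩
    have h1 : W true ⊓ X.basicOpen a = W true := by
      have := ha true
      rw [← Groth.Agent.Ega2.ExtCoeff.basicOpen_res X (hW true) a, this]
      exact X.basicOpen_one (U := U)
    have h2 : W false ⊓ X.basicOpen a = ⊥ := by
      have := ha false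
      rw [← Groth.Agent.Ega2.ExtCoeff.basicOpen_res X (hW false) a, this]
      exact X.basicOpen_zero (U := V)
    change U ⊓ X.basicOpen a = U at h1
    change V ⊓ X.basicOpen a = ⊥ at h2
    have h3 : X.basicOpen a = (U ⊔ V) ⊓ X.basicOpen a := (inf_eq_right.2 (X.basicOpen_le a)).symm
    rw [h3, inf_sup_right, h1, h2, sup_bot_eq]
  obtain ⟨a, ha⟩ := hcomp U V hd
  obtain ⟨b, hb⟩ := hcomp V U (by rw [inf_comm]; exact hd)
  have hb' : X.basicOpen (ores (le_of_eq (sup_comm U V)) b) = V := by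
    rw [Groth.Agent.Ega2.ExtCoeff.basicOpen_res, hb]
    exact inf_eq_right.2 le_sup_right
  refine ampleOn_of_basicOpen_cover (ι := Bool)
    (fun c => match c with | true => a | false => ores (le_of_eq (sup_comm U V)) b) ?_ ?_
  · refine sup_le ?_ ?_
    · refine le_iSup_of_le true ?_
      exact ha.ge
    · refine le_iSup_of_le false ?_
      exact hb'.ge
  · rintro (_ | _)
    · exact ampleOn_congr_opens hb'.symm hV
    · exact ampleOn_congr_opens ha.symm hU

theorem isRelAmple_coprod {X X' Y : Scheme.{u}} (f : X ⟶ Y) (f' : X' ⟶ Y) (L : X.Modules)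
    (L' : X'.Modules) (h : RelAmple.IsRelAmple f L) (h' : RelAmple.IsRelAmple f' L') :
    ∃ M : (X ⨿ X').Modules, RelAmple.IsRelAmple (coprod.desc f f') M := by
  have hc := isCompl_opensRange_inl_inr X X'
  obtain ⟨e⟩ := nonempty_restrict_iso (coprod.inl : X ⟶ X ⨿ X') (coprod.inr : X' ⟶ X ⨿ X')
    hc.disjoint L L'
  obtain ⟨e'⟩ := nonempty_restrict_iso (coprod.inr : X' ⟶ X ⨿ X') (coprod.inl : X ⟶ X ⨿ X')
    hc.symm.disjoint L' L
  let M := (Scheme.Modules.pushforward (coprod.inl : X ⟶ X ⨿ X')).obj L ⊞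
    (Scheme.Modules.pushforward (coprod.inr : X' ⟶ X ⨿ X')).obj L'
  let M' := (Scheme.Modules.pushforward (coprod.inr : X' ⟶ X ⨿ X')).obj L' ⊞
    (Scheme.Modules.pushforward (coprod.inl : X ⟶ X ⨿ X')).obj L
  let b : M ≅ M' := biprod.braiding _ _
  rw [isRelAmple_iff] at h h'
  refine ⟨M, isRelAmple_of_forall_exists fun y => ?_⟩
  obtain ⟨_, ⟨V, hV, rfl⟩, hyV, -⟩ := Y.isBasis_affineOpens.exists_subset_of_mem_open
    (show y ∈ (⊤ : Y.Opens) from trivial) (⊤ : Y.Opens).2
  refine ⟨V, hV, hyV, ?_⟩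
  have h1 : AmpleOn M ((coprod.inl : X ⟶ X ⨿ X') ''ᵁ (f ⁻¹ᵁ V)) := ampleOn_image _ e (h.2 ⟨V, hV⟩)
  have h2 : AmpleOn M ((coprod.inr : X' ⟶ X ⨿ X') ''ᵁ (f' ⁻¹ᵁ V)) :=
    Groth.Agent.Ega2.H292.NormData.ampleOn_of_iso b.symm (ampleOn_image _ e' (h'.2 ⟨V, hV⟩))
  have h3 : (coprod.desc f f') ⁻¹ᵁ V = ((coprod.inl : X ⟶ X ⨿ X') ''ᵁ (f ⁻¹ᵁ V)) ⊔
      ((coprod.inr : X' ⟶ X ⨿ X') ''ᵁ (f' ⁻¹ᵁ V)) := by
    have hl : ∀ x : X, coprod.desc f f' ((coprod.inl : X ⟶ X ⨿ X') x) = f x := by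
      intro x
      rw [← Scheme.Hom.comp_apply, coprod.inl_desc]
    have hr : ∀ x : X', coprod.desc f f' ((coprod.inr : X' ⟶ X ⨿ X') x) = f' x := by
      intro x
      rw [← Scheme.Hom.comp_apply, coprod.inr_desc]
    apply le_antisymm
    · intro x hx
      obtain ⟨(x | x), rfl⟩ := (coprodMk X X').surjective x
      · replace hx : f x ∈ V := by
          have h0 : coprod.desc f f' (coprodMk X X' (Sum.inl x)) ∈ V := hx
          rwa [coprodMk_inl, hl] at h0
        exact Or.inl ⟨x, hx, (coprodMk_inl X X' x).symm⟩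
      · replace hx : f' x ∈ V := by
          have h0 : coprod.desc f f' (coprodMk X X' (Sum.inr x)) ∈ V := hx
          rwa [coprodMk_inr, hr] at h0
        exact Or.inr ⟨x, hx, (coprodMk_inr X X' x).symm⟩
    · rintro _ (⟨x, hx, rfl⟩ | ⟨x, hx, rfl⟩)
      · have hx' : f x ∈ V := hx
        rw [← hl] at hx'
        exact hx'
      · have hx' : f' x ∈ V := hx
        rw [← hr] at hx'
        exact hx'
  refine ampleOn_congr_opens h3.symm (ampleOn_sup_of_disjoint h1 h2 ?_)
  rw [eq_bot_iff]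
  refine le_trans (inf_le_inf (Scheme.Hom.image_le_opensRange _ _) (Scheme.Hom.image_le_opensRange _ _)) ?_
  exact (disjoint_iff.1 hc.disjoint).le

end Groth.Agent.EGA2.K32.CoprodAmple
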