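import Groth.Agent.EGA2.K32.VAPull
import Groth.Agent.FormalA.PullbackQC
import Groth.Agent.S2297
import Groth.Prelude.Def_RelProj
import Groth.Prelude.Def_MoreMor

/-!
# Permanence of the section-level characterization of projective morphisms

`FVA q`: there are an invertible `L` on `X`, a quasi-coherent `E` of finite type on `Y` and `φ : E ⟶ q_* L` with
`K43.VADef.VA q φ`. `PVA q := IsProper q ∧ FVA q` (equivalent to `RelProj.IsProjective q`).

Base change, products, cancellation, restriction to a thickening.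
-/

set_option autoImplicit false
universe u
open CategoryTheory CategoryTheory.Limits AlgebraicGeometry TopologicalSpace Opposite

namespace Groth.Agent.EGA2.K32.Perm

open Groth.Agent.Fdesc.LocGen K43.VADef K42.VATens VAPull

/-- There is a very ample module for `q` relative to a quasi-coherent module of finite type on the target. -/
def FVA {X Y : Scheme.{u}} (q : X ⟶ Y) : Prop :=
  ∃ (L : X.Modules) (E : Y.Modules) (φ : E ⟶ (Scheme.Modules.pushforward q).obj L),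
    PicF.IsInvertible L ∧ Coh.IsQCoh E ∧ CohB1.IsFT E ∧ VA q φ

theorem FVA.pull {X Y X₂ Y₂ : Scheme.{u}} {q : X ⟶ Y} {q₂ : X₂ ⟶ Y₂} {a : X₂ ⟶ X} {b : Y₂ ⟶ Y}
    (w : a ≫ q = q₂ ≫ b) (hI : ImmProd a q₂) (h : FVA q) : FVA q₂ := by
  obtain ⟨L, E, φ, hL, hE, hE', hφ⟩ := h
  exact ⟨_, _, pullHom w φ, isInvertible_pullback a hL, Groth.Agent.FormalA.PullbackQC.isQCoh_pullback b E hE,
    Groth.Agent.FormalA.PullbackQC.isFT_pullback b E hE',
    va_pull w φ hI hL (Groth.Agent.FormalA.PullbackQC.isQCoh_pullback b E hE) hφ⟩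

theorem FVA.prod {X Y X' Y' Z Q : Scheme.{u}} {f : X ⟶ Y} {f' : X' ⟶ Y'} {r : Z ⟶ Q} {p : Z ⟶ X} {p' : Z ⟶ X'}
    {π : Q ⟶ Y} {π' : Q ⟶ Y'} (w : p ≫ f = r ≫ π) (w' : p' ≫ f' = r ≫ π') (hI : ImmProd p p')
    (h : FVA f) (h' : FVA f') : FVA r := by
  obtain ⟨L, E, φ, hL, hE, hEf, hφ⟩ := h
  obtain ⟨L', E', φ', hL', hE', hEf', hφ'⟩ := h'
  have i1 := Groth.Agent.FormalA.PullbackQC.isQCoh_pullback π E hE
  have i2 := Groth.Agent.FormalA.PullbackQC.isQCoh_pullback π' E' hE'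
  have h3 := Groth.Agent.S2297.result ((Scheme.Modules.pullback π).obj E) ((Scheme.Modules.pullback π').obj E')
  refine ⟨_, _, tensHom r (pullHom w φ) (pullHom w' φ'), ?_, h3.1, h3.2 ?_ ?_, va_prod w w' φ φ' hI hL hL' h3.1 hφ hφ'⟩
  · exact isInvertible_tensorMod (isInvertible_pullback p hL) (isInvertible_pullback p' hL')
  · exact Groth.Agent.FormalA.PullbackQC.isFT_pullback π E hEf
  · exact Groth.Agent.FormalA.PullbackQC.isFT_pullback π' E' hEf'

/-- Proper and very ample. -/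
def PVA {X Y : Scheme.{u}} (q : X ⟶ Y) : Prop := IsProper q ∧ FVA q

theorem PVA.baseChange {X Y X₂ Y₂ : Scheme.{u}} {q : X ⟶ Y} {q₂ : X₂ ⟶ Y₂} {a : X₂ ⟶ X} {b : Y₂ ⟶ Y}
    (hp : IsPullback a q₂ q b) (h : PVA q) : PVA q₂ :=
  ⟨MorphismProperty.of_isPullback hp h.1, h.2.pull hp.w (immProd_of_isPullback hp)⟩

/-- Cancellation. -/
theorem PVA.cancel {X Y Z : Scheme.{u}} {f : X ⟶ Y} {g : Y ⟶ Z} [IsSeparated g] (h : PVA (f ≫ g)) : PVA f := by
  have h1 : IsProper (f ≫ g) := h.1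
  exact ⟨IsProper.of_comp f g, h.2.pull (a := 𝟙 X) (b := g) (Category.id_comp _) (immProd_of_isImmersion inferInstance)⟩

/-- Restriction to an immersed subscheme on the source when the result is proper. -/
theorem PVA.of_isImmersion {X Y X₂ Y₂ : Scheme.{u}} {q : X ⟶ Y} {q₂ : X₂ ⟶ Y₂} {a : X₂ ⟶ X} {b : Y₂ ⟶ Y}
    (w : a ≫ q = q₂ ≫ b) [IsImmersion a] [IsProper q₂] (h : PVA q) : PVA q₂ :=
  ⟨inferInstance, h.2.pull w (immProd_of_isImmersion inferInstance)⟩

/-- Closed immersions on the source and separated morphisms on the target. -/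
theorem PVA.of_isClosedImmersion {X Y X₂ Y₂ : Scheme.{u}} {q : X ⟶ Y} {q₂ : X₂ ⟶ Y₂} {a : X₂ ⟶ X} {b : Y₂ ⟶ Y}
    (w : a ≫ q = q₂ ≫ b) [IsClosedImmersion a] [IsSeparated b] (h : PVA q) : PVA q₂ := by
  have h1 : IsProper q := h.1
  have h2 : IsProper (q₂ ≫ b) := by rw [← w]; infer_instance
  have : IsProper q₂ := IsProper.of_comp q₂ b
  exact h.of_isImmersion w

/-- Composition with a closed immersion. -/
theorem PVA.comp_closed {X Y X₂ : Scheme.{u}} {q : X ⟶ Y} (i : X₂ ⟶ X) [IsClosedImmersion i] (h : PVA q) :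
    PVA (i ≫ q) :=
  h.of_isClosedImmersion (a := i) (b := 𝟙 Y) (Category.comp_id _).symm

/-- Products. -/
theorem PVA.prod {X X' Y Y' S : Scheme.{u}} (a : Y ⟶ S) (a' : Y' ⟶ S) (f : X ⟶ Y) (f' : X' ⟶ Y')
    (hf : PVA f) (hf' : PVA f') :
    PVA (pullback.map (f ≫ a) (f' ≫ a') a a' f f' (𝟙 S) (Category.comp_id (f ≫ a)) (Category.comp_id (f' ≫ a'))) := by
  refine ⟨MorphismProperty.pullbackMap (P := @IsProper) hf.1 hf'.1 rfl rfl, ?_⟩
  refine FVA.prod (p := pullback.fst (f ≫ a) (f' ≫ a')) (p' := pullback.snd (f ≫ a) (f' ≫ a'))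
    (π := pullback.fst a a') (π' := pullback.snd a a') ?_ ?_ (immProd_of_isPullback (IsPullback.of_hasPullback _ _))
    hf.2 hf'.2
  · rw [pullback.map, pullback.lift_fst]
  · rw [pullback.map, pullback.lift_snd]

end Groth.Agent.EGA2.K32.Perm
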