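import Groth.Agent.EGA2.K43.CanMap
import Groth.Agent.EGA2.K43.Piece
import Groth.Agent.EGA2.K32.ProjProper
import Groth.Agent.EGA2.K32.Perm
import Groth.Agent.EGA2.K34.AmpleCrit

/-!
# Projective morphisms are proper and carry a very ample module

`isProper_of_isProjective`, and `pva_of_isProjective` (from the existence of `O_P(1)`).
-/

set_option autoImplicit false
universe u
open CategoryTheory CategoryTheory.Limits AlgebraicGeometry TopologicalSpace Opposite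

namespace Groth.Agent.EGA2.K32.ProjVA

open Groth.Agent.Fdesc.LocGen K43.VADef K43.CanMap K43.Piece VAPull Perm

theorem isProper_of_isProjective {X Y : Scheme.{u}} {f : X ⟶ Y} (hf : RelProj.IsProjective f) : IsProper f := by
  obtain ⟨𝒮, P, p, chart, e, hgen, hft, hP, rfl⟩ := hf
  have := ProjProper.isProper_of_isRelProj hP hgen hft
  infer_instance

/-- Existence of `O_P(1)` on the relative homogeneous spectrum. -/
def TwistEx {Y : Scheme.{u}} (𝒮 : RelProj.QCGrAlg Y) {P : Scheme.{u}} (p : P ⟶ Y)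
    (chart : ∀ (U : Y.Opens) (hU : IsAffineOpen U), (((p ⁻¹ᵁ U : P.Opens) : Scheme.{u}) ≅ Proj (𝒮.deg U hU))) : Prop :=
  ∃ (L : P.Modules) (lam : ∀ (U : Y.Opens) (hU : IsAffineOpen U),
      L ⟶ (Scheme.Modules.pushforward (RelProj.emb p chart U hU)).obj (GrTwist.twist (𝒮.deg U hU) 1)),
      RelProj.IsRelTwist 𝒮 p chart 1 L lam

theorem fva_of_isRelProj {Y P : Scheme.{u}} {𝒮 : RelProj.QCGrAlg Y} {p : P ⟶ Y}
    {chart : ∀ (U : Y.Opens) (hU : IsAffineOpen U), (((p ⁻¹ᵁ U : P.Opens) : Scheme.{u}) ≅ Proj (𝒮.deg U hU))}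
    (hP : RelProj.IsRelProj 𝒮 p chart) (hgen : 𝒮.IsGenDegOne) (hft : 𝒮.IsFTDeg 1) (hT : TwistEx 𝒮 p chart) :
    FVA p := by
  obtain ⟨L, lam, hL⟩ := hT
  exact ⟨L, piece 𝒮 1, canMap hP hL (pack_piece 𝒮 hgen).mem, isInvertible hP hL (pack_piece 𝒮 hgen),
    isQCoh_piece 𝒮 1, isFT_piece 𝒮 1 hft, va_canMap hP hL (pack_piece 𝒮 hgen)⟩

/-- **Projective morphisms are proper and carry a very ample module.** -/
theorem pva_of_isProjective {X Y : Scheme.{u}} {f : X ⟶ Y} (hf : RelProj.IsProjective f)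
    (hT : ∀ (𝒮 : RelProj.QCGrAlg Y) (P : Scheme.{u}) (p : P ⟶ Y)
      (chart : ∀ (U : Y.Opens) (hU : IsAffineOpen U), (((p ⁻¹ᵁ U : P.Opens) : Scheme.{u}) ≅ Proj (𝒮.deg U hU))),
      RelProj.IsRelProj 𝒮 p chart → TwistEx 𝒮 p chart) : PVA f := by
  refine ⟨isProper_of_isProjective hf, ?_⟩
  obtain ⟨𝒮, P, p, chart, e, hgen, hft, hP, rfl⟩ := hf
  exact (fva_of_isRelProj hP hgen hft (hT _ _ _ _ hP)).pull (a := e.hom) (b := 𝟙 Y) (Category.comp_id _).symm
    (immProd_of_isImmersion inferInstance)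

/-- **Projective morphisms are quasi-projective.** -/
theorem isQuasiProjective_of_isProjective {X Y : Scheme.{u}} {f : X ⟶ Y} (hf : RelProj.IsProjective f)
    (hT : ∀ (𝒮 : RelProj.QCGrAlg Y) (P : Scheme.{u}) (p : P ⟶ Y)
      (chart : ∀ (U : Y.Opens) (hU : IsAffineOpen U), (((p ⁻¹ᵁ U : P.Opens) : Scheme.{u}) ≅ Proj (𝒮.deg U hU))),
      RelProj.IsRelProj 𝒮 p chart → TwistEx 𝒮 p chart) : RelProj.IsQuasiProjective f := by
  have hpr : IsProper f := isProper_of_isProjective hf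
  obtain ⟨𝒮, P, p, chart, e, hgen, hft, hP, he⟩ := hf
  have hpp : IsProper p := ProjProper.isProper_of_isRelProj hP hgen hft
  obtain ⟨L, lam, hL⟩ := hT _ _ _ _ hP
  refine ⟨inferInstance, inferInstance, (Scheme.Modules.pullback e.hom).obj L, ?_⟩
  refine K34.AmpleCrit.isRelAmple_pullback_of_isEmbedding f p e.hom he
    e.hom.isOpenEmbedding.isEmbedding L fun V x hx => ?_
  obtain ⟨t, ht⟩ := exists_mem_nz hP hL (pack_piece 𝒮 hgen) V.2 x hx
  exact ⟨_, ht, isAffineOpen_nz hP hL (pack_piece 𝒮 hgen) V.2 t⟩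

end Groth.Agent.EGA2.K32.ProjVA
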