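import Groth.Agent.EGA2.K32.ProjIff
import Groth.Agent.Mor.K386.QPVA
import Groth.Agent.Mor.K386.OpenHalf
import Groth.Agent.EGA2.K34.RelAmpInv

/-!
# Quasi-projective morphisms as dense open subschemes of relative homogeneous spectra

`isQuasiProjective_of_isImmersion`: a quasi-compact immersion over `Y` into a projective `Y`-scheme (or a relative
homogeneous spectrum generated in degree one) is quasi-projective.
-/

set_option autoImplicit false
universe u
open CategoryTheory CategoryTheory.Limits AlgebraicGeometry TopologicalSpace Opposite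

namespace Groth.Agent.EGA2.K32.QProjOpen

open Perm ProjVA ProjIff K43.CanMap K43.Piece

/-- An immersion into a relative homogeneous spectrum generated in degree one with `𝒮_1` of finite type. -/
theorem isQuasiProjective_of_isRelProj {X Y P : Scheme.{u}} (f : X ⟶ Y) [QuasiCompact f]
    {𝒮 : RelProj.QCGrAlg Y} {p : P ⟶ Y}
    {chart : ∀ (U : Y.Opens) (hU : IsAffineOpen U), (((p ⁻¹ᵁ U : P.Opens) : Scheme.{u}) ≅ Proj (𝒮.deg U hU))}
    (hP : RelProj.IsRelProj 𝒮 p chart) (hgen : 𝒮.IsGenDegOne) (hft : 𝒮.IsFTDeg 1) (j : X ⟶ P) [IsImmersion j]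
    (hj : j ≫ p = f) : RelProj.IsQuasiProjective f := by
  have hpp : IsProper p := ProjProper.isProper_of_isRelProj hP hgen hft
  obtain ⟨L, lam, hL⟩ := twistEx _ _ _ _ hP
  have hlft : LocallyOfFiniteType f := by rw [← hj]; infer_instance
  refine ⟨hlft, inferInstance, (Scheme.Modules.pullback j).obj L, ?_⟩
  refine K34.AmpleCrit.isRelAmple_pullback_of_isEmbedding f p j hj j.isEmbedding L fun V x hx => ?_
  obtain ⟨t, ht⟩ := exists_mem_nz hP hL (pack_piece 𝒮 hgen) V.2 x hx
  exact ⟨_, ht, isAffineOpen_nz hP hL (pack_piece 𝒮 hgen) V.2 t⟩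

/-- A quasi-compact immersion into a projective `Y`-scheme. -/
theorem isQuasiProjective_of_isImmersion {X Y P : Scheme.{u}} (f : X ⟶ Y) [QuasiCompact f] (p : P ⟶ Y)
    (hp : RelProj.IsProjective p) (j : X ⟶ P) [IsImmersion j] (hj : j ≫ p = f) : RelProj.IsQuasiProjective f := by
  obtain ⟨𝒮, P', p', chart, e, hgen, hft, hP, rfl⟩ := hp
  exact isQuasiProjective_of_isRelProj f hP hgen hft (j ≫ e.hom) (by rw [← hj, Category.assoc])

/-- **Quasi-projective morphisms over a quasi-compact quasi-separated base.** -/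
theorem isQuasiProjective_iff {X Y : Scheme.{u}} [CompactSpace Y] [QuasiSeparatedSpace Y] (f : X ⟶ Y) :
    RelProj.IsQuasiProjective f ↔
      (LocallyOfFiniteType f ∧ QuasiCompact f ∧
        ∃ (𝒮 : RelProj.QCGrAlg Y) (P : Scheme.{u}) (p : P ⟶ Y)
          (chart : ∀ (U : Y.Opens) (hU : IsAffineOpen U), ((p ⁻¹ᵁ U : P.Opens) : Scheme.{u}) ≅ Proj (𝒮.deg U hU))
          (j : X ⟶ P), 𝒮.IsGenDegOne ∧ 𝒮.IsFTDeg 1 ∧ RelProj.IsRelProj 𝒮 p chart ∧
            IsOpenImmersion j ∧ Dense (Set.range j.base) ∧ j ≫ p = f) := by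
  constructor
  · rintro ⟨h1, h2, L, hL⟩
    obtain ⟨n₀, hn⟩ := K386.QPVA.exists_va_of_isRelAmple (f := f) hL
    obtain ⟨E, φ, hE, hEf, -, hVA⟩ := hn n₀ le_rfl
    have hLi : PicF.IsInvertible (CohB1.tensorPow L n₀) :=
      Groth.Agent.Fdesc.LocGen.isInvertible_tensorPow (K34.RelAmpInv.isInvertible_of_isRelAmple f hL) n₀
    have := hE
    obtain ⟨P, p, i, ⟨𝒮, P', p', chart, e, hgen, hft, hP, he⟩, hi, hd, hip⟩ :=
      K386.OpenHalf.exists_projective f φ hLi hE
        (fun U hU => Groth.Agent.CohqB.FiniteType2.finite_sections_of_isFT E hEf hU) hVA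
    have hd' : IsDominant (i ≫ e.hom) := inferInstance
    exact ⟨h1, h2, 𝒮, P', p', chart, i ≫ e.hom, hgen, hft, hP, inferInstance, hd'.1,
      by rw [Category.assoc, he, hip]⟩
  · rintro ⟨h1, h2, 𝒮, P, p, chart, j, hgen, hft, hP, hj, -, hjp⟩
    exact isQuasiProjective_of_isRelProj f hP hgen hft j hjp

end Groth.Agent.EGA2.K32.QProjOpen
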