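import Groth.Agent.EGA2.K43.GrFrac
import Groth.Agent.Fdesc.LocGen

/-!
# The comparison map of twisting sheaves along a localization at a degree-zero element

For `ψ : 𝒜 →+*ᵍ ℬ` with `LocAt ψ c` (`ψ c` a unit, every `b` is `ψ a / ψ c ^ k`, `ψ a = 0` implies `c ^ k a = 0`),
`c ∈ 𝒜 0`, and `Proj.map ψ` an open immersion:
* `locMap_injective`;
* `cm_bijective`: `GrTwist.comap ψ hψ n` is bijective on sections over opens inside the range of `Proj.map ψ`.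
-/

set_option autoImplicit false
universe u
open CategoryTheory CategoryTheory.Limits AlgebraicGeometry TopologicalSpace Opposite GrTwist
open scoped HomogeneousIdeal

namespace Groth.Agent.EGA2.K32.TwistLoc

open Groth.Agent.Fdesc.LocGen K43.GrFrac

variable {A σ : Type u} [CommRing A] [SetLike σ A] [AddSubgroupClass σ A] {𝒜 : ℕ → σ} [GradedRing 𝒜]
  {B τ : Type u} [CommRing B] [SetLike τ B] [AddSubgroupClass τ B] {ℬ : ℕ → τ} [GradedRing ℬ]
  (ψ : 𝒜 →+*ᵍ ℬ) (hψ : ℬ₊ ≤ (𝒜₊).map ψ) (c : A)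

/-- `ψ` is the localization at `c`. -/
structure LocAt : Prop where
  isUnit : IsUnit (ψ c)
  surj : ∀ b : B, ∃ (a : A) (k : ℕ), b * ψ c ^ k = ψ a
  inj : ∀ a : A, ψ a = 0 → ∃ k : ℕ, c ^ k * a = 0

variable {ψ c} (h : LocAt ψ c) (hc : c ∈ 𝒜 0)

theorem pow_mem_zero {c : A} (hc : c ∈ 𝒜 0) (k : ℕ) : c ^ k ∈ 𝒜 0 := by
  simpa using SetLike.pow_mem_graded k hc

include h hc in
theorem LocAt.surj_deg {i : ℕ} {b : B} (hb : b ∈ ℬ i) : ∃ a ∈ 𝒜 i, ∃ k : ℕ, b * ψ c ^ k = ψ a := by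
  obtain ⟨a, k, hk⟩ := h.surj b
  refine ⟨(DirectSum.decompose 𝒜 a i : A), SetLike.coe_mem _, k, ?_⟩
  have h0 : ψ c ^ k ∈ ℬ 0 := pow_mem_zero (ψ.map_mem hc) k
  have h1 : b * ψ c ^ k ∈ ℬ i := by simpa using SetLike.mul_mem_graded hb h0
  rw [GradedRingHom.map_directSumDecompose, ← hk, DirectSum.decompose_of_mem_same _ h1]

include h in
theorem notMem (y : ProjectiveSpectrum ℬ) (k : ℕ) : ψ c ^ k ∉ y.asHomogeneousIdeal.toIdeal := fun hm =>
  y.isPrime.ne_top (Ideal.eq_top_of_isUnit_mem _ hm (h.isUnit.pow k))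

include h in
theorem locMap_injective (y : ProjectiveSpectrum ℬ) : Function.Injective (locMap ψ hψ y) := by
  rw [injective_iff_map_eq_zero]
  intro q hq
  induction q using Localization.induction_on with
  | H p =>
    obtain ⟨a, s⟩ := p
    rw [locMap_mk, Localization.mk_eq_mk', IsLocalization.mk'_eq_zero_iff] at hq
    obtain ⟨⟨t, ht⟩, hta⟩ := hq
    obtain ⟨t', k, hk⟩ := h.surj t
    have h1 : ψ (t' * a) = 0 := by
      rw [map_mul, ← hk, mul_right_comm, hta, zero_mul]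
    obtain ⟨m, hm⟩ := h.inj _ h1
    rw [Localization.mk_eq_mk', IsLocalization.mk'_eq_zero_iff]
    refine ⟨⟨c ^ m * t', ?_⟩, by rw [← hm]; ring⟩
    intro hmem
    have h2 : ψ (c ^ m * t') ∈ y.asHomogeneousIdeal.toIdeal := hmem
    rw [map_mul, map_pow, ← hk] at h2
    rcases y.isPrime.mem_or_mem h2 with h3 | h3
    · exact notMem h y m h3
    · rcases y.isPrime.mem_or_mem h3 with h4 | h4
      · exact ht h4
      · exact notMem h y k h4

variable {n : ℤ}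

/-- The comparison map on sections. -/
noncomputable def cm {V : (Proj 𝒜).Opens} (s : Γ(twist 𝒜 n, V)) : Γ(twist ℬ n, Proj.map ψ hψ ⁻¹ᵁ V) :=
  (GrTwist.comap ψ hψ n).app V s

theorem val_cm {V : (Proj 𝒜).Opens} (s : Γ(twist 𝒜 n, V)) (y : (Proj.map ψ hψ ⁻¹ᵁ V : (Proj ℬ).Opens)) :
    val (cm hψ s) y = locMap ψ hψ y.1 (val s ⟨ProjectiveSpectrum.comap ψ hψ y.1, y.2⟩) := rfl

theorem cm_res {V V' : (Proj 𝒜).Opens} (hV : V' ≤ V) (s : Γ(twist 𝒜 n, V)) :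
    cm hψ (res _ hV s) = res _ ((Proj.map ψ hψ).preimage_mono hV) (cm hψ s) := rfl

theorem map_apply (y : Proj ℬ) : Proj.map ψ hψ y = ProjectiveSpectrum.comap ψ hψ y := rfl

variable [IsOpenImmersion (Proj.map ψ hψ)]

include h in
theorem cm_injective {V : (Proj 𝒜).Opens} (hV : V ≤ (Proj.map ψ hψ).opensRange) :
    Function.Injective (cm hψ : Γ(twist 𝒜 n, V) → _) := by
  intro s s' hs
  refine sec_ext fun x => ?_
  obtain ⟨x, hx⟩ := x
  obtain ⟨y, rfl⟩ := hV hx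
  apply locMap_injective hψ h y
  have h1 := congrArg (fun t => val t ⟨y, hx⟩) hs
  exact h1

include h hc in
/-- Locally, sections come from below. -/
theorem exists_local {V : (Proj 𝒜).Opens} (t : Γ(twist ℬ n, Proj.map ψ hψ ⁻¹ᵁ V)) (y : Proj ℬ)
    (hy : Proj.map ψ hψ y ∈ V) : ∃ (V' : (Proj 𝒜).Opens) (hV' : V' ≤ V) (_ : Proj.map ψ hψ y ∈ V')
      (s : Γ(twist 𝒜 n, V')), cm hψ s = res _ ((Proj.map ψ hψ).preimage_mono hV') t := by
  obtain ⟨W, hyW, iW, i, j, b, g, hg, hij, hfrac⟩ := (show sectN (𝒜 := ℬ) n (op (Proj.map ψ hψ ⁻¹ᵁ V)) from t).2 ⟨y, hy⟩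
  have hWle : W ≤ Proj.map ψ hψ ⁻¹ᵁ V := iW.le
  have hV' : Proj.map ψ hψ ''ᵁ W ≤ V := by
    rintro _ ⟨y', hy', rfl⟩
    exact hWle hy'
  have hmem : ∀ y' : Proj ℬ, Proj.map ψ hψ y' ∈ Proj.map ψ hψ ''ᵁ W → y' ∈ W := by
    rintro y' ⟨y'', hy'', he⟩
    rwa [← (Proj.map ψ hψ).isOpenEmbedding.injective he]
  have hyV' : Proj.map ψ hψ y ∈ Proj.map ψ hψ ''ᵁ W := ⟨y, hyW, rfl⟩
  rcases hij with hij | hb
  · obtain ⟨a, ha, k, hk⟩ := h.surj_deg hc b.2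
    obtain ⟨s, hs, l, hl⟩ := h.surj_deg hc g.2
    have hcl : ∀ m, c ^ m ∈ 𝒜 0 := fun m => pow_mem_zero hc m
    have ha' : a * c ^ l ∈ 𝒜 i := by simpa using SetLike.mul_mem_graded ha (hcl l)
    have hs' : s * c ^ k ∈ 𝒜 j := by simpa using SetLike.mul_mem_graded hs (hcl k)
    have hnv : ∀ x ∈ Proj.map ψ hψ ''ᵁ W, (⟨s * c ^ k, hs'⟩ : 𝒜 j).1 ∉ x.asHomogeneousIdeal := by
      rintro _ ⟨y', hy', rfl⟩ hm
      have h2 : ψ (s * c ^ k) ∈ y'.asHomogeneousIdeal.toIdeal := hm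
      rw [map_mul, map_pow, ← hl] at h2
      rcases y'.isPrime.mem_or_mem h2 with h3 | h3
      · rcases y'.isPrime.mem_or_mem h3 with h4 | h4
        · exact hg ⟨y', hy'⟩ h4
        · exact notMem h y' l h4
      · exact notMem h y' k h3
    refine ⟨Proj.map ψ hψ ''ᵁ W, hV', hyV', fracSec n ⟨a * c ^ l, ha'⟩ ⟨s * c ^ k, hs'⟩ hij _ hnv, ?_⟩
    refine sec_ext fun y' => ?_
    have h5 := hfrac ⟨y'.1, hmem y'.1 y'.2⟩
    rw [val_cm, val_res]
    refine Eq.trans ?_ h5.symm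
    change locMap ψ hψ y'.1 (Localization.mk _ _) = _
    rw [locMap_mk, Localization.mk_eq_mk_iff, Localization.r_iff_exists]
    refine ⟨1, ?_⟩
    change (1 : B) * (g.1 * ψ (a * c ^ l)) = 1 * (ψ (s * c ^ k) * b.1)
    rw [map_mul, map_mul, map_pow, map_pow, ← hk, ← hl]
    ring
  · refine ⟨Proj.map ψ hψ ''ᵁ W, hV', hyV', 0, ?_⟩
    refine sec_ext fun y' => ?_
    have h5 := hfrac ⟨y'.1, hmem y'.1 y'.2⟩
    rw [val_cm, val_res]
    refine Eq.trans ?_ h5.symm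
    rw [hb, Localization.mk_zero]
    exact map_zero _

include h hc in
theorem cm_surjective {V : (Proj 𝒜).Opens} (hV : V ≤ (Proj.map ψ hψ).opensRange) :
    Function.Surjective (cm hψ : Γ(twist 𝒜 n, V) → _) := by
  intro t
  have hloc : ∀ x : V, ∃ (V' : (Proj 𝒜).Opens) (hV' : V' ≤ V) (_ : x.1 ∈ V') (s : Γ(twist 𝒜 n, V')),
      cm hψ s = res _ ((Proj.map ψ hψ).preimage_mono hV') t := by
    rintro ⟨x, hx⟩
    obtain ⟨y, rfl⟩ := hV hx
    exact exists_local hψ h hc t y hx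
  choose V' hV' hxV' s hs using hloc
  obtain ⟨s₀, hs₀⟩ := res_glue (twist 𝒜 n) (V := V) V' hV' (fun x hx => Opens.mem_iSup.mpr ⟨⟨x, hx⟩, hxV' _⟩) s (by
    intro x x'
    apply cm_injective hψ h ((inf_le_left.trans (hV' x)).trans hV)
    rw [cm_res, cm_res, hs, hs, res_res, res_res])
  refine ⟨s₀, ?_⟩
  refine res_ext (twist ℬ n) (fun x : V => Proj.map ψ hψ ⁻¹ᵁ (V' x)) (fun x => (Proj.map ψ hψ).preimage_mono (hV' x))
    (fun y hy => Opens.mem_iSup.mpr ⟨⟨_, hy⟩, hxV' _⟩) fun x => ?_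
  rw [← cm_res hψ (hV' x), hs₀, hs]

include h hc in
/-- **The comparison map is bijective over opens inside the range.** -/
theorem cm_bijective {V : (Proj 𝒜).Opens} (hV : V ≤ (Proj.map ψ hψ).opensRange) :
    Function.Bijective (cm hψ : Γ(twist 𝒜 n, V) → _) :=
  ⟨cm_injective hψ h hV, cm_surjective hψ h hc hV⟩

end Groth.Agent.EGA2.K32.TwistLoc
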